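import Cfsg.Prelude.Def_LocalStructure
import Cfsg.Agent.Lib.Thompson.Cores

/-!
Conjugates of subgroups, `pCoreOf`, and elementary facts about `p`-subgroups of a finite group.
-/

set_option autoImplicit false
set_option linter.unusedSectionVars false
set_option linter.unusedSimpArgs false
set_option linter.style.haveILetI false

open Subgroup Cfsg

namespace Cfsg.Agent.LargeSub

variable {G : Type*} [Group G]

/-! ### Conjugates -/

theorem mem_conj {H : Subgroup G} {g x : G} :
    x ∈ H.map (MulAut.conj g).toMonoidHom ↔ g⁻¹ * x * g ∈ H := by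
  rw [Subgroup.map_equiv_eq_comap_symm' (MulAut.conj g) H]
  simp [MulAut.conj_symm_apply]

theorem conj_one (H : Subgroup G) : H.map (MulAut.conj (1 : G)).toMonoidHom = H := by
  ext x; simp [mem_conj]

theorem conj_mul (H : Subgroup G) (a b : G) :
    H.map (MulAut.conj (a * b)).toMonoidHom =
      (H.map (MulAut.conj b).toMonoidHom).map (MulAut.conj a).toMonoidHom := by
  ext x; simp [mem_conj, mul_assoc]

theorem conj_inv_conj (H : Subgroup G) (g : G) :
    (H.map (MulAut.conj g).toMonoidHom).map (MulAut.conj g⁻¹).toMonoidHom = H := by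
  rw [← conj_mul, inv_mul_cancel, conj_one]

theorem conj_conj_inv (H : Subgroup G) (g : G) :
    (H.map (MulAut.conj g⁻¹).toMonoidHom).map (MulAut.conj g).toMonoidHom = H := by
  rw [← conj_mul, mul_inv_cancel, conj_one]

theorem conj_le_conj_iff {H K : Subgroup G} {g : G} :
    H.map (MulAut.conj g).toMonoidHom ≤ K.map (MulAut.conj g).toMonoidHom ↔ H ≤ K :=
  Subgroup.map_le_map_iff_of_injective (MulAut.conj g).injective

theorem conj_le_iff {H K : Subgroup G} {g : G} :
    H.map (MulAut.conj g).toMonoidHom ≤ K ↔ H ≤ K.map (MulAut.conj g⁻¹).toMonoidHom := by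
  rw [← conj_le_conj_iff (g := g⁻¹), conj_inv_conj]

theorem le_conj_iff {H K : Subgroup G} {g : G} :
    H ≤ K.map (MulAut.conj g).toMonoidHom ↔ H.map (MulAut.conj g⁻¹).toMonoidHom ≤ K := by
  rw [← conj_le_conj_iff (g := g⁻¹), conj_inv_conj]

theorem card_conj (H : Subgroup G) (g : G) :
    Nat.card ↥(H.map (MulAut.conj g).toMonoidHom) = Nat.card H :=
  (Nat.card_congr (H.equivMapOfInjective _ (MulAut.conj g).injective).toEquiv).symm

theorem isPGroup_conj {p : ℕ} {H : Subgroup G} (hH : IsPGroup p H) (g : G) :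
    IsPGroup p ↥(H.map (MulAut.conj g).toMonoidHom) :=
  hH.map _

theorem conj_inf (H K : Subgroup G) (g : G) :
    (H ⊓ K).map (MulAut.conj g).toMonoidHom =
      H.map (MulAut.conj g).toMonoidHom ⊓ K.map (MulAut.conj g).toMonoidHom :=
  Subgroup.map_inf _ _ _ (MulAut.conj g).injective

theorem conj_centralizer (H : Subgroup G) (g : G) :
    (centralizer (H : Set G)).map (MulAut.conj g).toMonoidHom =
      centralizer (H.map (MulAut.conj g).toMonoidHom : Set G) := by
  ext x
  rw [mem_conj, mem_centralizer_iff, mem_centralizer_iff]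
  constructor
  · intro h y hy
    have h1 := h _ (mem_conj.1 hy)
    calc y * x = g * ((g⁻¹ * y * g) * (g⁻¹ * x * g)) * g⁻¹ := by group
      _ = g * ((g⁻¹ * x * g) * (g⁻¹ * y * g)) * g⁻¹ := by rw [h1]
      _ = x * y := by group
  · intro h y hy
    have h1 := h (g * y * g⁻¹) (mem_conj.2 (by simpa [mul_assoc] using hy))
    calc y * (g⁻¹ * x * g) = g⁻¹ * ((g * y * g⁻¹) * x) * g := by group
      _ = g⁻¹ * (x * (g * y * g⁻¹)) * g := by rw [h1]
      _ = g⁻¹ * x * g * y := by group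

theorem conj_normalizer (H : Subgroup G) (g : G) :
    (normalizer (H : Set G)).map (MulAut.conj g).toMonoidHom =
      normalizer (H.map (MulAut.conj g).toMonoidHom : Set G) :=
  Subgroup.map_equiv_normalizer_eq H (MulAut.conj g)

/-- Conjugation by an element of the normalizer fixes the subgroup. -/
theorem conj_eq_of_mem_normalizer {H : Subgroup G} {g : G} (hg : g ∈ normalizer (H : Set G)) :
    H.map (MulAut.conj g).toMonoidHom = H := by
  ext x
  rw [mem_conj]
  exact (Subgroup.mem_normalizer_iff''.1 hg x).symm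

theorem conj_eq_of_mem {H : Subgroup G} {g : G} (hg : g ∈ H) :
    H.map (MulAut.conj g).toMonoidHom = H :=
  conj_eq_of_mem_normalizer (le_normalizer hg)

theorem mem_normalizer_of_conj_eq {H : Subgroup G} {g : G}
    (h : H.map (MulAut.conj g).toMonoidHom = H) : g ∈ normalizer (H : Set G) := by
  rw [Subgroup.mem_normalizer_iff'']
  intro x
  rw [← mem_conj, h]

theorem mem_normalizer_of_conj_le [Finite G] {H : Subgroup G} {g : G}
    (h : H.map (MulAut.conj g).toMonoidHom ≤ H) : g ∈ normalizer (H : Set G) :=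
  mem_normalizer_of_conj_eq (Subgroup.eq_of_le_of_card_ge h (card_conj H g).ge)

/-- The normalizer of a subgroup normalizes its centralizer. -/
theorem normalizer_le_normalizer_centralizer (H : Subgroup G) :
    normalizer (H : Set G) ≤ normalizer (centralizer (H : Set G) : Set G) := fun g hg => by
  apply mem_normalizer_of_conj_eq
  rw [conj_centralizer, conj_eq_of_mem_normalizer hg]

theorem le_normalizer_inf {K A B : Subgroup G} (hA : K ≤ normalizer (A : Set G))
    (hB : K ≤ normalizer (B : Set G)) : K ≤ normalizer (A ⊓ B : Subgroup G) := fun g hg => by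
  apply mem_normalizer_of_conj_eq
  rw [conj_inf, conj_eq_of_mem_normalizer (hA hg), conj_eq_of_mem_normalizer (hB hg)]

theorem le_normalizer_sup {K A B : Subgroup G} (hA : K ≤ normalizer (A : Set G))
    (hB : K ≤ normalizer (B : Set G)) : K ≤ normalizer (A ⊔ B : Subgroup G) := fun g hg => by
  apply mem_normalizer_of_conj_eq
  rw [Subgroup.map_sup, conj_eq_of_mem_normalizer (hA hg), conj_eq_of_mem_normalizer (hB hg)]

theorem le_normalizer_iSup {ι : Sort*} {K : Subgroup G} {A : ι → Subgroup G}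
    (hA : ∀ i, K ≤ normalizer (A i : Set G)) : K ≤ normalizer (⨆ i, A i : Subgroup G) :=
  fun g hg => by
  apply mem_normalizer_of_conj_eq
  rw [Subgroup.map_iSup]
  exact iSup_congr fun i => conj_eq_of_mem_normalizer (hA i hg)

theorem exists_mul_of_mem_sup {A B : Subgroup G} (h : A ≤ normalizer (B : Set G)) {x : G}
    (hx : x ∈ A ⊔ B) : ∃ a ∈ A, ∃ b ∈ B, x = a * b := by
  rw [← SetLike.mem_coe, Subgroup.coe_mul_of_left_le_normalizer_right A B h] at hx
  obtain ⟨a, ha, b, hb, rfl⟩ := hx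
  exact ⟨a, ha, b, hb, rfl⟩

theorem commutator_le_of_le_normalizer {A B : Subgroup G} (h : A ≤ normalizer (B : Set G)) :
    ⁅A, B⁆ ≤ B :=
  Subgroup.le_normalizer_iff_commutator_le_right.1 h

theorem commutator_le_left_of_le_normalizer {A B : Subgroup G} (h : B ≤ normalizer (A : Set G)) :
    ⁅A, B⁆ ≤ A :=
  Subgroup.le_normalizer_iff_commutator_le_left.1 h

theorem isPGroup_sup {p : ℕ} {A B : Subgroup G} (hA : IsPGroup p A) (hB : IsPGroup p B)
    (h : A ≤ normalizer (B : Set G)) : IsPGroup p ↥(A ⊔ B) :=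
  hA.to_sup_of_normal_right' hB h

/-! ### `pCoreOf` -/

theorem pCoreOf_le {p : ℕ} (H : Subgroup G) : pCoreOf p H ≤ H := Subgroup.map_subtype_le _

theorem isPGroup_pCoreOf {p : ℕ} (H : Subgroup G) : IsPGroup p ↥(pCoreOf p H) :=
  (Thompson.isPGroup_pCore).map _

theorem conj_pCoreOf (p : ℕ) (H : Subgroup G) (g : G) :
    (pCoreOf p H).map (MulAut.conj g).toMonoidHom =
      pCoreOf p (H.map (MulAut.conj g).toMonoidHom) := by
  let e : ↥H ≃* ↥(H.map (MulAut.conj g).toMonoidHom) :=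
    H.equivMapOfInjective _ (MulAut.conj g).injective
  unfold pCoreOf
  rw [← Thompson.map_pCore_equiv e, Subgroup.map_map, Subgroup.map_map]
  congr 1

theorem normalizer_le_normalizer_pCoreOf (p : ℕ) (H : Subgroup G) :
    normalizer (H : Set G) ≤ normalizer (pCoreOf p H : Set G) := fun g hg => by
  apply mem_normalizer_of_conj_eq
  rw [conj_pCoreOf, conj_eq_of_mem_normalizer hg]

theorem le_normalizer_pCoreOf (p : ℕ) (H : Subgroup G) :
    H ≤ normalizer (pCoreOf p H : Set G) :=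
  le_normalizer.trans (normalizer_le_normalizer_pCoreOf p H)

theorem normal_subgroupOf_of_le_normalizer {N H : Subgroup G}
    (h : H ≤ normalizer (N : Set G)) : (N.subgroupOf H).Normal :=
  ⟨fun n hn x => (Subgroup.mem_normalizer_iff.1 (h x.2) n).1 hn⟩

theorem le_normalizer_map_subtype {H : Subgroup G} (N : Subgroup H) [N.Normal] :
    H ≤ normalizer (N.map H.subtype : Set G) := fun g hg => by
  rw [Subgroup.mem_normalizer_iff]
  intro x
  constructor
  · rintro ⟨n, hn, rfl⟩
    exact ⟨⟨g, hg⟩ * n * ⟨g, hg⟩⁻¹, Subgroup.Normal.conj_mem ‹_› n hn _, rfl⟩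
  · rintro ⟨n, hn, he⟩
    refine ⟨⟨g, hg⟩⁻¹ * n * ⟨g, hg⟩, ?_, ?_⟩
    · simpa using Subgroup.Normal.conj_mem ‹N.Normal› n hn ⟨g, hg⟩⁻¹
    · simp only [Subgroup.coe_subtype] at he
      simp [he, mul_assoc]

theorem le_pCoreOf {p : ℕ} {N H : Subgroup G} (hNH : N ≤ H)
    (hn : H ≤ normalizer (N : Set G)) (hp : IsPGroup p N) : N ≤ pCoreOf p H := by
  intro x hx
  exact ⟨⟨x, hNH hx⟩, Thompson.le_pCore (normal_subgroupOf_of_le_normalizer hn)
    hp.comap_subtype hx, rfl⟩

/-- `O_p` of a subgroup contains its intersection with `O_p` of an overgroup. -/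
theorem pCoreOf_inf_le {p : ℕ} {H K : Subgroup G} (hHK : H ≤ K) :
    pCoreOf p K ⊓ H ≤ pCoreOf p H :=
  le_pCoreOf inf_le_right
    (le_normalizer_inf (hHK.trans (le_normalizer_pCoreOf p K)) le_normalizer)
    (isPGroup_pCoreOf K).to_inf_left

/-- `O_p` of a normal subgroup lies in `O_p` of the group. -/
theorem pCoreOf_mono_of_normal {p : ℕ} {N H : Subgroup G} (hNH : N ≤ H)
    (hn : H ≤ normalizer (N : Set G)) : pCoreOf p N ≤ pCoreOf p H :=
  le_pCoreOf ((pCoreOf_le N).trans hNH) (hn.trans (normalizer_le_normalizer_pCoreOf p N))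
    (isPGroup_pCoreOf N)

theorem pCore_ne_bot_iff {p : ℕ} {H : Subgroup G} : pCore p ↥H ≠ ⊥ ↔ pCoreOf p H ≠ ⊥ :=
  not_congr (Subgroup.map_eq_bot_iff_of_injective _ H.subtype_injective).symm

/-- The inner form of "`H` has characteristic `p`". -/
theorem charP_iff {p : ℕ} {H : Subgroup G} :
    centralizer (pCore p ↥H : Set ↥H) ≤ pCore p ↥H ↔
      H ⊓ centralizer (pCoreOf p H : Set G) ≤ pCoreOf p H := by
  constructor
  · rintro h x ⟨hxH, hx⟩
    refine ⟨⟨x, hxH⟩, h ?_, rfl⟩
    rw [Subgroup.mem_centralizer_iff]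
    intro y hy
    exact Subtype.ext (Subgroup.mem_centralizer_iff.1 hx y ⟨y, hy, rfl⟩)
  · intro h x hx
    obtain ⟨y, hy, he⟩ := h ⟨x.2, Subgroup.mem_centralizer_iff.2 (by
      rintro _ ⟨y, hy, rfl⟩
      exact congrArg Subtype.val (Subgroup.mem_centralizer_iff.1 hx y hy))⟩
    rwa [show x = y from (Subtype.ext he).symm]

/-! ### `p`-elements and `p'`-elements -/

variable [Finite G] {p : ℕ} [Fact p.Prime]

theorem eq_one_of_pElement_of_coprime {x : G} (hx : ∃ k, x ^ p ^ k = 1)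
    (hc : (orderOf x).Coprime p) : x = 1 := by
  obtain ⟨k, hk⟩ := hx
  exact orderOf_eq_one_iff.1
    (Nat.eq_one_of_dvd_coprimes (Nat.Coprime.pow_right k hc) dvd_rfl
      (orderOf_dvd_of_pow_eq_one hk))

theorem exists_coprime_pow (x : G) : ∃ k : ℕ, (orderOf (x ^ p ^ k)).Coprime p := by
  have hp : p.Prime := Fact.out
  obtain ⟨k, m, hm, hkm⟩ :=
    Nat.exists_eq_pow_mul_and_not_dvd (orderOf_pos x).ne' p hp.ne_one
  refine ⟨k, ?_⟩
  rw [orderOf_pow' _ (pow_pos hp.pos k).ne', hkm,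
    Nat.gcd_eq_right (dvd_mul_right _ _), Nat.mul_div_cancel_left _ (pow_pos hp.pos k)]
  exact ((hp.coprime_iff_not_dvd).mpr hm).symm

theorem exists_pow_prime_pow_eq_one {Q : Subgroup G} (hQ : IsPGroup p Q) {x : G} (hx : x ∈ Q) :
    ∃ k, x ^ p ^ k = 1 := by
  obtain ⟨k, hk⟩ := hQ ⟨x, hx⟩
  exact ⟨k, congrArg Subtype.val hk⟩

theorem isPGroup_zpowers {x : G} (h : ∃ k, x ^ p ^ k = 1) : IsPGroup p ↥(zpowers x) := by
  rintro ⟨y, hy⟩
  obtain ⟨i, rfl⟩ := Subgroup.mem_zpowers_iff.1 hy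
  obtain ⟨k, hk⟩ := h
  refine ⟨k, Subtype.ext ?_⟩
  show (x ^ i) ^ p ^ k = 1
  rw [← zpow_natCast, ← zpow_mul, mul_comm, zpow_mul, zpow_natCast, hk, one_zpow]

/-- A subgroup is a `p`-group when all its `p'`-elements are trivial. -/
theorem isPGroup_of_coprime_trivial {H : Subgroup G}
    (h : ∀ x ∈ H, (orderOf x).Coprime p → x = 1) : IsPGroup p H := fun x => by
  obtain ⟨k, hk⟩ := exists_coprime_pow (p := p) (x : G)
  exact ⟨k, Subtype.ext (by simpa using h _ (H.pow_mem x.2 _) hk)⟩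

/-- If `c = d * q * d⁻¹ * q⁻¹` is a `p`-element commuting with the `p'`-element `d`,
then `d` commutes with `q`. -/
theorem commute_of_commutator_pElement {d q : G} (hd : (orderOf d).Coprime p)
    (hc : ∃ k, (q * d * q⁻¹ * d⁻¹) ^ p ^ k = 1) (hcd : Commute (q * d * q⁻¹ * d⁻¹) d) :
    q * d = d * q := by
  set c := q * d * q⁻¹ * d⁻¹ with hcdef
  have h1 : c * d = q * d * q⁻¹ := by rw [hcdef]; group
  have h2 : (c * d) ^ orderOf d = 1 := by rw [h1, conj_pow, pow_orderOf_eq_one]; group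
  rw [hcd.mul_pow, pow_orderOf_eq_one, mul_one] at h2
  have h3 : c = 1 := eq_one_of_pElement_of_coprime hc
    (hd.coprime_dvd_left (orderOf_dvd_of_pow_eq_one h2))
  rw [h3, one_mul] at h1
  calc q * d = (q * d * q⁻¹) * q := by group
    _ = d * q := by rw [← h1]

theorem exists_ne_one_inf_centralizer {Q P : Subgroup G} (hQ : IsPGroup p Q)
    (hP : IsPGroup p P) (hP1 : P ≠ ⊥) (hn : Q ≤ normalizer (P : Set G)) :
    P ⊓ centralizer (Q : Set G) ≠ ⊥ := by
  letI : MulAction Q P :=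
    { smul := fun q x => ⟨(q : G) * x * (q : G)⁻¹,
        (Subgroup.mem_normalizer_iff.1 (hn q.2) x).1 x.2⟩
      one_smul := fun x => Subtype.ext (show ((1 : Q) : G) * x * ((1 : Q) : G)⁻¹ = x by simp)
      mul_smul := fun a b x => Subtype.ext
        (show ((a * b : Q) : G) * x * ((a * b : Q) : G)⁻¹ =
          (a : G) * ((b : G) * x * (b : G)⁻¹) * (a : G)⁻¹ by simp [mul_assoc]) }
  have hdvd : p ∣ Nat.card P := by
    rcases hP.card_eq_or_dvd with h | h
    · exact absurd (Subgroup.card_eq_one.1 h) hP1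
    · exact h
  have h1 : (1 : P) ∈ MulAction.fixedPoints Q P := fun q =>
    Subtype.ext (show (q : G) * ((1 : P) : G) * (q : G)⁻¹ = ((1 : P) : G) by simp)
  obtain ⟨b, hb, hb1⟩ := hQ.exists_fixed_point_of_prime_dvd_card_of_fixed_point P hdvd h1
  intro hbot
  apply hb1
  have : (b : G) ∈ P ⊓ centralizer (Q : Set G) := ⟨b.2, Subgroup.mem_centralizer_iff.2
    fun q hq => mul_inv_eq_iff_eq_mul.1 (congrArg Subtype.val (hb ⟨q, hq⟩))⟩
  rw [hbot, Subgroup.mem_bot] at this
  exact Subtype.ext this.symm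

/-- A proper subgroup of a `p`-subgroup is properly contained in its normalizer there. -/
theorem exists_normalizer_not_mem {L L₀ : Subgroup G} (hL : IsPGroup p L) (hlt : L₀ < L) :
    ∃ x ∈ L, x ∉ L₀ ∧ x ∈ normalizer (L₀ : Set G) := by
  haveI : Group.IsNilpotent L := hL.isNilpotent
  have hlt' : L₀.subgroupOf L < ⊤ := by
    rw [lt_top_iff_ne_top, Ne, Subgroup.subgroupOf_eq_top]
    exact not_le_of_gt hlt
  obtain ⟨x, hx, hx'⟩ := SetLike.exists_of_lt (Group.normalizerCondition_of_isNilpotent (G := L)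
    (L₀.subgroupOf L) hlt')
  refine ⟨x, x.2, fun h => hx' h, ?_⟩
  rw [Subgroup.mem_normalizer_iff] at hx ⊢
  intro y
  constructor
  · intro hy; exact (hx ⟨y, hlt.le hy⟩).1 hy
  · intro hy
    have hyL : y ∈ L := by
      have h3 : (x : G) * y * (x : G)⁻¹ ∈ L := hlt.le hy
      have h4 : (x : G)⁻¹ * ((x : G) * y * (x : G)⁻¹) * x ∈ L :=
        L.mul_mem (L.mul_mem (L.inv_mem x.2) h3) x.2
      simpa [mul_assoc] using h4
    exact (hx ⟨y, hyL⟩).2 hy

/-- Sylow's theorem inside a subgroup `X` containing a Sylow subgroup of `G`. -/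
theorem exists_conj_le_of_sylow_le {X R : Subgroup G} (S : Sylow p G)
    (hS : (S : Subgroup G) ≤ X) (hR : R ≤ X) (hRp : IsPGroup p R) :
    ∃ x ∈ X, R ≤ (S : Subgroup G).map (MulAut.conj x).toMonoidHom := by
  obtain ⟨T, hT⟩ := (hRp.comap_subtype (K := X)).exists_le_sylow
  obtain ⟨x, hx⟩ := MulAction.exists_smul_eq X (S.subtype hS) T
  refine ⟨x, x.2, fun r hr => ?_⟩
  have h1 : (⟨r, hR hr⟩ : X) ∈ (T : Subgroup X) := hT hr
  rw [← hx, Sylow.coe_subgroup_smul, Subgroup.mem_pointwise_smul_iff_inv_smul_mem] at h1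
  rw [mem_conj]
  simpa [Subgroup.mem_subgroupOf] using h1

/-- `R` lies in a Sylow subgroup of `X`, whose image in `G` is a `p`-subgroup. -/
theorem exists_sylow_subgroup_le {X R : Subgroup G} (hR : R ≤ X) (hRp : IsPGroup p R) :
    ∃ T : Sylow p X, R ≤ (T : Subgroup X).map X.subtype := by
  obtain ⟨T, hT⟩ := (hRp.comap_subtype (K := X)).exists_le_sylow
  exact ⟨T, fun r hr => ⟨⟨r, hR hr⟩, hT hr, rfl⟩⟩

theorem sylow_map_max {X R : Subgroup G} (T : Sylow p X)
    (hTR : (T : Subgroup X).map X.subtype ≤ R) (hR : R ≤ X) (hRp : IsPGroup p R) :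
    R = (T : Subgroup X).map X.subtype := by
  have h1 : (T : Subgroup X) ≤ R.subgroupOf X := fun x hx => hTR ⟨x, hx, rfl⟩
  have h2 := T.3 hRp.comap_subtype h1
  rw [← h2, Subgroup.map_comap_eq, Subgroup.range_subtype, inf_eq_right.2 hR]

end Cfsg.Agent.LargeSub
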