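import Cfsg.Agent.LargeSub.Basic
import Cfsg.Agent.Lib.PGroup.Basic
import Cfsg.Agent.Lib.Components.GenFitting
import Cfsg.Agent.Lib.Coprime.Action

/-!
Groups of characteristic `p`, `p`-residuals of subgroups and related general lemmas.
-/

set_option autoImplicit false
set_option linter.unusedSectionVars false
set_option linter.style.haveILetI false

open Subgroup Cfsg

namespace Cfsg.Agent.LargeSub

variable {G : Type*} [Group G] [Finite G] {p : ℕ} [Fact p.Prime]

theorem charP_normal {X N : Subgroup G} (hX : X ⊓ centralizer (pCoreOf p X : Set G) ≤ pCoreOf p X)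
    (hNX : N ≤ X) (hn : X ≤ normalizer (N : Set G)) :
    N ⊓ centralizer (pCoreOf p N : Set G) ≤ pCoreOf p N := by
  set D := N ⊓ centralizer (pCoreOf p N : Set G) with hD
  refine le_pCoreOf inf_le_left (le_normalizer_inf le_normalizer
    ((le_normalizer_pCoreOf p N).trans (normalizer_le_normalizer_centralizer _)))
    (isPGroup_of_coprime_trivial fun d hd hcop => ?_)
  have hd' : d ∈ X ⊓ centralizer (pCoreOf p X : Set G) := by
    refine ⟨hNX hd.1, Subgroup.mem_centralizer_iff.2 fun r hr => ?_⟩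
    refine commute_of_commutator_pElement (p := p) hcop ?_ ?_
    · refine exists_pow_prime_pow_eq_one (isPGroup_pCoreOf X) ?_
      have h1 : d * r⁻¹ * d⁻¹ ∈ pCoreOf p X :=
        (Subgroup.mem_normalizer_iff.1 (le_normalizer_pCoreOf p X (hNX hd.1)) r⁻¹).1 (inv_mem hr)
      simpa [mul_assoc] using mul_mem hr h1
    · have h1 : r * d * r⁻¹ * d⁻¹ ∈ pCoreOf p X := by
        have h1 : d * r⁻¹ * d⁻¹ ∈ pCoreOf p X :=
          (Subgroup.mem_normalizer_iff.1 (le_normalizer_pCoreOf p X (hNX hd.1)) r⁻¹).1 (inv_mem hr)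
        simpa [mul_assoc] using mul_mem hr h1
      have h2 : r * d * r⁻¹ * d⁻¹ ∈ N :=
        mul_mem ((Subgroup.mem_normalizer_iff.1 (hn (pCoreOf_le X hr)) d).1 hd.1) (inv_mem hd.1)
      exact Subgroup.mem_centralizer_iff.1 hd.2 _ (pCoreOf_inf_le hNX ⟨h1, h2⟩)
  exact eq_one_of_pElement_of_coprime
    (exists_pow_prime_pow_eq_one (isPGroup_pCoreOf X) (hX hd')) hcop

theorem charP_of_pCoreOf_le {X Y : Subgroup G}
    (hX : X ⊓ centralizer (pCoreOf p X : Set G) ≤ pCoreOf p X)
    (hYX : Y ≤ X) (hR : pCoreOf p X ≤ Y) :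
    Y ⊓ centralizer (pCoreOf p Y : Set G) ≤ pCoreOf p Y := by
  have h1 : pCoreOf p X ≤ pCoreOf p Y :=
    (le_inf le_rfl hR).trans (pCoreOf_inf_le hYX)
  exact fun x hx => h1 (hX ⟨hYX hx.1, Subgroup.centralizer_le h1 hx.2⟩)

theorem charP_conj {X : Subgroup G} (hX : X ⊓ centralizer (pCoreOf p X : Set G) ≤ pCoreOf p X)
    (g : G) : X.map (MulAut.conj g).toMonoidHom ⊓
      centralizer (pCoreOf p (X.map (MulAut.conj g).toMonoidHom) : Set G) ≤
        pCoreOf p (X.map (MulAut.conj g).toMonoidHom) := by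
  rw [← conj_pCoreOf, ← conj_centralizer, ← conj_inf]
  exact Subgroup.map_mono hX

/-- `O^p(H)` as a subgroup of `G`. -/
theorem mem_pResidual_map {H : Subgroup G} {x : G} (hx : x ∈ H) (hc : (orderOf x).Coprime p) :
    x ∈ (pResidual p ↥H).map H.subtype :=
  ⟨⟨x, hx⟩, Thompson.mem_pResidual_of_coprime (by rwa [Subgroup.orderOf_mk]), rfl⟩

theorem pResidual_map_le_iff {H K : Subgroup G} :
    (pResidual p ↥H).map H.subtype ≤ K ↔ ∀ x ∈ H, (orderOf x).Coprime p → x ∈ K := by
  constructor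
  · exact fun h x hx hc => h (mem_pResidual_map hx hc)
  · intro h
    rw [Subgroup.map_le_iff_le_comap, pResidual, Subgroup.closure_le]
    exact fun x hx => h x x.2 (by rwa [Subgroup.orderOf_coe])

theorem exists_pow_mem_pResidual_map {H : Subgroup G} {x : G} (hx : x ∈ H) :
    ∃ k, x ^ p ^ k ∈ (pResidual p ↥H).map H.subtype := by
  obtain ⟨k, hk⟩ := exists_coprime_pow (p := p) x
  exact ⟨k, mem_pResidual_map (pow_mem hx _) hk⟩

theorem le_normalizer_pResidual_map (H : Subgroup G) :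
    H ≤ normalizer ((pResidual p ↥H).map H.subtype : Set G) :=
  le_normalizer_map_subtype _

/-- A `p'`-element with a `p`-power in `N` lies in `N`. -/
theorem mem_of_pow_mem_of_coprime {N : Subgroup G} {x : G} {k : ℕ} (h : x ^ p ^ k ∈ N)
    (hc : (orderOf x).Coprime p) : x ∈ N := by
  obtain ⟨j, hj⟩ := exists_pow_eq_self_of_coprime (x := x) (Nat.Coprime.pow_left k hc.symm)
  rw [← hj]
  exact pow_mem h j

theorem pow_mem_of_mem_sup {A N : Subgroup G} (hA : IsPGroup p A)
    (hn : A ≤ normalizer (N : Set G)) {x : G} (hx : x ∈ A ⊔ N) : ∃ k, x ^ p ^ k ∈ N := by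
  haveI hNn : (N.subgroupOf (A ⊔ N)).Normal :=
    normal_subgroupOf_of_le_normalizer (sup_le hn le_normalizer)
  set π := QuotientGroup.mk' (N.subgroupOf (A ⊔ N)) with hπ
  have hq : IsPGroup p (↥(A ⊔ N) ⧸ N.subgroupOf (A ⊔ N)) := by
    refine IsPGroup.of_surjective (G := A) ?_ (π.comp (Subgroup.inclusion le_sup_left)) ?_
    · exact hA
    · intro q
      obtain ⟨⟨y, hy⟩, rfl⟩ := QuotientGroup.mk'_surjective _ q
      obtain ⟨a, ha, b, hb, rfl⟩ := exists_mul_of_mem_sup hn hy
      refine ⟨⟨a, ha⟩, ?_⟩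
      rw [MonoidHom.comp_apply, hπ, QuotientGroup.mk'_apply, QuotientGroup.mk'_apply,
        QuotientGroup.eq]
      simpa [Subgroup.mem_subgroupOf] using hb
  obtain ⟨k, hk⟩ := hq (π ⟨x, hx⟩)
  refine ⟨k, ?_⟩
  rw [← map_pow, hπ, QuotientGroup.mk'_apply, QuotientGroup.eq_one_iff] at hk
  simpa [Subgroup.mem_subgroupOf] using hk

/-- In a nilpotent group a subgroup with full normal closure is everything. -/
theorem eq_top_of_normalClosure_eq_top {X : Type*} [Group X] [Finite X] (hX : Group.IsNilpotent X)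
    {A : Subgroup X} (h : normalClosure (A : Set X) = ⊤) : A = ⊤ := by
  by_contra hA
  obtain ⟨M, hM, hAM⟩ := (eq_top_or_exists_le_coatom A).resolve_left hA
  haveI := hX
  haveI : M.Normal :=
    NormalizerCondition.normal_of_coatom M Group.normalizerCondition_of_isNilpotent hM
  exact hM.1 (top_le_iff.1 (h ▸ normalClosure_le_normal (N := M) hAM))

/-- If `N` is normal with `N/K` a `p`-group, then `N ≤ T ⊔ K` for a Sylow subgroup `T`. -/
theorem le_sylow_sup {X : Type*} [Group X] [Finite X] (T : Sylow p X) (N K : Subgroup X)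
    [N.Normal] [K.Normal] (h : ∀ x ∈ N, ∃ k, x ^ p ^ k ∈ K) :
    N ≤ (T : Subgroup X) ⊔ K := by
  set π := QuotientGroup.mk' K with hπ
  have hp : IsPGroup p ↥(N.map π) := by
    rintro ⟨_, x, hx, rfl⟩
    obtain ⟨k, hk⟩ := h x hx
    refine ⟨k, Subtype.ext ?_⟩
    simp only [SubmonoidClass.coe_pow, OneMemClass.coe_one, ← map_pow]
    exact (QuotientGroup.eq_one_iff _).2 hk
  haveI := ‹N.Normal›.map π (QuotientGroup.mk'_surjective K)
  have h1 := hp.le_sylow_of_normal (T.mapSurjective (QuotientGroup.mk'_surjective K))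
  intro x hx
  obtain ⟨t, ht, he⟩ := h1 (Subgroup.mem_map_of_mem π hx)
  rw [hπ, QuotientGroup.mk'_apply, QuotientGroup.mk'_apply, QuotientGroup.eq] at he
  have h2 := Subgroup.mul_mem_sup (S := (T : Subgroup X)) (T := K) ht he
  rwa [mul_inv_cancel_left] at h2

/-- A normal subgroup which is central-by-`p` in a group with `O_p = 1` has no nontrivial
`p`-elements. -/
theorem eq_one_of_central_ext {X : Type*} [Group X] [Finite X] (hX : pCore p X = ⊥)
    (Z C : Subgroup X) [Z.Normal] [C.Normal] (hcen : Z ⊓ C ≤ centralizer (Z : Set X))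
    (hp : ∀ z ∈ Z, ∃ k, z ^ p ^ k ∈ C) {x : X} (hx : x ∈ Z) (hxp : ∃ k, x ^ p ^ k = 1) :
    x = 1 := by
  have hnil : Group.IsNilpotent Z := by
    have hq : IsPGroup p (Z ⧸ C.subgroupOf Z) := by
      intro q
      obtain ⟨⟨z, hz⟩, rfl⟩ := QuotientGroup.mk'_surjective _ q
      obtain ⟨k, hk⟩ := hp z hz
      refine ⟨k, ?_⟩
      rw [← map_pow, QuotientGroup.mk'_apply, QuotientGroup.eq_one_iff, Subgroup.mem_subgroupOf]
      simpa using hk
    haveI := hq.isNilpotent
    refine Subgroup.isNilpotent_of_ker_le_center (QuotientGroup.mk' (C.subgroupOf Z)) ?_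
    rw [QuotientGroup.ker_mk']
    intro z hz
    rw [Subgroup.mem_center_iff]
    intro w
    exact Subtype.ext (Subgroup.mem_centralizer_iff.1 (hcen ⟨z.2, hz⟩) w w.2)
  obtain ⟨k, hk⟩ := hxp
  obtain ⟨P, hP⟩ := (isPGroup_zpowers (x := (⟨x, hx⟩ : Z)) ⟨k, Subtype.ext hk⟩).exists_le_sylow
  haveI : (P : Subgroup Z).Normal :=
    P.normal_of_normalizerCondition (by
      haveI := hnil
      exact Group.normalizerCondition_of_isNilpotent)
  have h1 : (P : Subgroup Z) ≤ pCore p Z := Thompson.le_pCore ‹_› P.isPGroup'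
  have h2 : x ∈ (pCore p Z).map Z.subtype := ⟨⟨x, hx⟩, h1 (hP (mem_zpowers _)), rfl⟩
  have h3 := Thompson.map_pCore_normal_le (p := p) Z h2
  rwa [hX, Subgroup.mem_bot] at h3

/-- In a group with `O_p = 1` a `p`-subgroup normalized by `F*` is trivial. -/
theorem eq_bot_of_le_normalizer_generalizedFitting {X : Type*} [Group X] [Finite X]
    (hX : pCore p X = ⊥) {P : Subgroup X} (hP : IsPGroup p P)
    (hn : generalizedFittingSubgroup X ≤ normalizer (P : Set X)) : P = ⊥ := by
  set F := generalizedFittingSubgroup X with hF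
  have hFn : F.Normal := inferInstance
  have hPF : P ⊓ F = ⊥ := by
    rw [eq_bot_iff, ← hX]
    refine Thompson.le_pCore_of_isSubnormal ?_ hP.to_inf_left
    exact Subgroup.IsSubnormal.step _ F inf_le_right hFn.isSubnormal
      (normal_subgroupOf_of_le_normalizer (le_normalizer_inf hn le_normalizer))
  have hPc : P ≤ centralizer (F : Set X) := by
    rw [← Subgroup.commutator_eq_bot_iff_le_centralizer, eq_bot_iff, ← hPF]
    refine le_inf (commutator_le_left_of_le_normalizer hn) (Subgroup.commutator_le_right P F)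
  rw [← hPF, left_eq_inf]
  exact hPc.trans Components.centralizer_generalizedFitting_le

/-- A `p'`-element centralizing `A` modulo `[A, A]` centralizes the `p`-group `A`. -/
theorem centralizes_of_centralizes_mod_commutator {A : Subgroup G} (hA : IsPGroup p A) {d : G}
    (hd : d ∈ normalizer (A : Set G)) (hc : (orderOf d).Coprime p)
    (h : ∀ a ∈ A, d * a * d⁻¹ * a⁻¹ ∈ ⁅A, A⁆) : d ∈ centralizer (A : Set G) := by
  have hle : ⁅A, A⁆ ≤ (frattini A).map A.subtype := by
    have h1 := Subgroup.map_mono (f := A.subtype) (PGroup.commutator_le_frattini (p := p) hA)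
    rwa [commutator_def, Subgroup.map_commutator, ← MonoidHom.range_eq_map,
      Subgroup.range_subtype] at h1
  refine Coprime.le_centralizer_of_frattini (zpowers d) A (zpowers_le.2 hd) ?_ ?_ (mem_zpowers d)
  · obtain ⟨n, hn⟩ := IsPGroup.iff_card.mp (hA.to_subgroup (frattini A))
    rw [Nat.card_zpowers, hn]
    exact hc.pow_right n
  · intro a ha k hk
    apply hle
    obtain ⟨j, rfl⟩ := mem_powers_iff_mem_zpowers.2 ha
    induction j generalizing k with
    | zero => simp
    | succ j ih =>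
      have hn1 : d ^ j ∈ normalizer (A : Set G) := pow_mem hd j
      have hk' : d ^ j * k * (d ^ j)⁻¹ ∈ A := (Subgroup.mem_normalizer_iff.1 hn1 k).1 hk
      have h1 := h _ hk'
      have h2 := ih k hk (mem_powers_iff_mem_zpowers.1 ⟨j, rfl⟩)
      have e : d ^ (j + 1) * k * (d ^ (j + 1))⁻¹ * k⁻¹ =
          (d * (d ^ j * k * (d ^ j)⁻¹) * d⁻¹ * (d ^ j * k * (d ^ j)⁻¹)⁻¹) *
            (d ^ j * k * (d ^ j)⁻¹ * k⁻¹) := by
        rw [pow_succ']; group
      simp only at h2 ⊢
      rw [e]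
      exact mul_mem h1 h2

end Cfsg.Agent.LargeSub
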