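import Cfsg.Agent.LargeSub.FrakM
import Cfsg.Agent.LargeSub.CharP

/-!
The family `ℌ_G(O_p(M))` for an asymmetric `Y_M`.
-/

set_option autoImplicit false
set_option linter.unusedSectionVars false
set_option linter.style.haveILetI false

open Subgroup Cfsg

namespace Cfsg.Agent.LargeSub

variable {G : Type*} [Group G] [Finite G] {p : ℕ} [Fact p.Prime]

/-- The normal closure of `A` in `H`, inside `G`, as a join of conjugates. -/
theorem normalClosure_map_eq_iSup {H A : Subgroup G} (hA : A ≤ H) :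
    (normalClosure ((A.subgroupOf H : Subgroup H) : Set H)).map H.subtype =
      ⨆ h : H, A.map (MulAut.conj (h : G)).toMonoidHom := by
  apply le_antisymm
  · rw [Subgroup.normalClosure, MonoidHom.map_closure, Subgroup.closure_le]
    rintro _ ⟨w, hw, rfl⟩
    obtain ⟨z, hz, hzw⟩ := Group.mem_conjugatesOfSet_iff.1 hw
    obtain ⟨a, rfl⟩ := isConj_iff.1 hzw
    exact le_iSup (fun h : H => A.map (MulAut.conj (h : G)).toMonoidHom) a
      ⟨z, hz, rfl⟩
  · refine iSup_le fun h => ?_
    rintro _ ⟨a, ha, rfl⟩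
    exact ⟨h * ⟨a, hA ha⟩ * h⁻¹,
      Subgroup.normalClosure_normal.conj_mem _
        (Subgroup.subset_normalClosure (show (⟨a, hA ha⟩ : H) ∈ A.subgroupOf H from ha)) h, rfl⟩

theorem iSup_conj_le {H A : Subgroup G} (hA : A ≤ H) :
    ⨆ h : H, A.map (MulAut.conj (h : G)).toMonoidHom ≤ H :=
  iSup_le fun h => (Subgroup.map_mono hA).trans (conj_eq_of_mem h.2).le

theorem le_iSup_conj (H A : Subgroup G) :
    A ≤ ⨆ h : H, A.map (MulAut.conj (h : G)).toMonoidHom :=
  (conj_one A).ge.trans (le_iSup (fun h : H => A.map (MulAut.conj (h : G)).toMonoidHom) 1)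

theorem le_normalizer_iSup_conj (H A : Subgroup G) :
    H ≤ normalizer ((⨆ h : H, A.map (MulAut.conj (h : G)).toMonoidHom : Subgroup G) : Set G) :=
  fun g hg => by
  apply mem_normalizer_of_conj_le
  rw [Subgroup.map_iSup]
  refine iSup_le fun h => ?_
  rw [← conj_mul]
  exact le_iSup (fun h : H => A.map (MulAut.conj (h : G)).toMonoidHom) (⟨g, hg⟩ * h)

namespace Std

variable {S : Sylow p G} {Q M : Subgroup G}

theorem asym_commute_conj (h : Std p S Q M)
    (hasym : ¬ IsSymmetricIn (largestPReducedOf p M)) {g : G}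
    (h1 : (largestPReducedOf p M).map (MulAut.conj g).toMonoidHom ≤
      M ⊔ centralizer (largestPReducedOf p M : Set G))
    (h2 : (largestPReducedOf p M).map (MulAut.conj g⁻¹).toMonoidHom ≤
      M ⊔ centralizer (largestPReducedOf p M : Set G)) :
    (largestPReducedOf p M).map (MulAut.conj g).toMonoidHom ≤
      centralizer (largestPReducedOf p M : Set G) := by
  have hn1 := h1.trans h.dagger_le_normalizer_Y
  have hn2 : largestPReducedOf p M ≤
      normalizer ((largestPReducedOf p M).map (MulAut.conj g).toMonoidHom : Set G) := by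
    rw [← conj_normalizer, le_conj_iff]
    exact h2.trans h.dagger_le_normalizer_Y
  rw [← Subgroup.commutator_eq_bot_iff_le_centralizer, Subgroup.commutator_comm]
  by_contra hne
  exact hasym ⟨g, hne, le_inf (commutator_le_left_of_le_normalizer hn1)
    (commutator_le_of_le_normalizer hn2)⟩

/-- Key step: a subgroup of `M†` normalized by `F` and acting as a `p`-group on `Y_M`
centralizes `Y_M`. -/
theorem le_centralizer_of_F_le_normalizer (h : Std p S Q M)
    [hn : ((centralizer (largestPReducedOf p M : Set G)).subgroupOf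
      (M ⊔ centralizer (largestPReducedOf p M : Set G))).Normal]
    {P : Subgroup G} (hPD : P ≤ M ⊔ centralizer (largestPReducedOf p M : Set G))
    (hF : ((generalizedFittingSubgroup (↥(M ⊔ centralizer (largestPReducedOf p M : Set G)) ⧸
        (centralizer (largestPReducedOf p M : Set G)).subgroupOf
          (M ⊔ centralizer (largestPReducedOf p M : Set G)))).comap
      (QuotientGroup.mk' ((centralizer (largestPReducedOf p M : Set G)).subgroupOf
        (M ⊔ centralizer (largestPReducedOf p M : Set G))))).map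
      (M ⊔ centralizer (largestPReducedOf p M : Set G)).subtype ≤ normalizer (P : Set G))
    (hP : ∀ x ∈ P, ∃ k, x ^ p ^ k ∈ centralizer (largestPReducedOf p M : Set G)) :
    P ≤ centralizer (largestPReducedOf p M : Set G) := by
  set C := centralizer (largestPReducedOf p M : Set G) with hC
  set D := M ⊔ C with hD
  set π := QuotientGroup.mk' (C.subgroupOf D) with hπ
  have hX : pCore p (↥D ⧸ C.subgroupOf D) = ⊥ := by
    have hle : ((pCore p (↥D ⧸ C.subgroupOf D)).comap π).map D.subtype ≤ C := by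
      have hY : largestPReducedOf p M = largestPReducedOf p D := h.frakM.2.2.2.1
      have key : ∀ z ∈ (pCore p (↥D ⧸ C.subgroupOf D)).comap π,
          z ∈ centralizer (largestPReduced p ↥D : Set ↥D) := by
        apply le_centralizer_of_reduced largestPReduced_isPReducedNormal
        intro z hz
        obtain ⟨k, hk⟩ := (Thompson.isPGroup_pCore (p := p) (G := ↥D ⧸ C.subgroupOf D)) ⟨_, hz⟩
        refine ⟨k, Subgroup.mem_centralizer_iff.2 fun w hw => ?_⟩
        have h1 : z ^ p ^ k ∈ C.subgroupOf D := by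
          rw [← QuotientGroup.eq_one_iff (z ^ p ^ k)]
          exact congrArg Subtype.val hk
        have h2 : (w : G) ∈ largestPReducedOf p M := by rw [hY]; exact ⟨w, hw, rfl⟩
        exact Subtype.ext (Subgroup.mem_centralizer_iff.1 h1 w h2)
      rintro _ ⟨z, hz, rfl⟩
      rw [hC, hY, Subgroup.mem_centralizer_iff]
      rintro _ ⟨w, hw, rfl⟩
      exact congrArg Subtype.val (Subgroup.mem_centralizer_iff.1 (key z hz) w hw)
    rw [eq_bot_iff]
    intro q hq
    obtain ⟨z, rfl⟩ := QuotientGroup.mk'_surjective _ q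
    exact (QuotientGroup.eq_one_iff z).2 (hle ⟨z, hq, rfl⟩)
  have hbot : (P.subgroupOf D).map π = ⊥ := by
    refine eq_bot_of_le_normalizer_generalizedFitting hX ?_ ?_
    · rintro ⟨_, x, hx, rfl⟩
      obtain ⟨k, hk⟩ := hP x hx
      refine ⟨k, Subtype.ext ?_⟩
      simp only [SubmonoidClass.coe_pow, OneMemClass.coe_one, ← map_pow]
      exact (QuotientGroup.eq_one_iff _).2 hk
    · intro q hq
      obtain ⟨f, rfl⟩ := QuotientGroup.mk'_surjective _ q
      have hf : f ∈ normalizer (P.subgroupOf D : Set ↥D) := by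
        have h1 := hF ⟨f, hq, rfl⟩
        rw [Subgroup.mem_normalizer_iff] at h1 ⊢
        intro x
        exact h1 x
      exact Subgroup.le_normalizer_map π ⟨f, hf, rfl⟩
  intro x hx
  have hm : π ⟨x, hPD hx⟩ ∈ (P.subgroupOf D).map π := ⟨⟨x, hPD hx⟩, hx, rfl⟩
  rw [hbot, Subgroup.mem_bot, hπ, QuotientGroup.mk'_apply] at hm
  exact (QuotientGroup.eq_one_iff (⟨x, hPD hx⟩ : ↥D)).1 hm

/-- Asymmetric `Y_M` lies in `Y_H` for a characteristic `p` overgroup `H` of `F`. -/
theorem asym_Y_le_largestPReducedOf (h : Std p S Q M)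
    (hasym : ¬ IsSymmetricIn (largestPReducedOf p M))
    [hn : ((centralizer (largestPReducedOf p M : Set G)).subgroupOf
      (M ⊔ centralizer (largestPReducedOf p M : Set G))).Normal]
    {H : Subgroup G}
    (hF : ((generalizedFittingSubgroup (↥(M ⊔ centralizer (largestPReducedOf p M : Set G)) ⧸
        (centralizer (largestPReducedOf p M : Set G)).subgroupOf
          (M ⊔ centralizer (largestPReducedOf p M : Set G)))).comap
      (QuotientGroup.mk' ((centralizer (largestPReducedOf p M : Set G)).subgroupOf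
        (M ⊔ centralizer (largestPReducedOf p M : Set G))))).map
      (M ⊔ centralizer (largestPReducedOf p M : Set G)).subtype ≤ H)
    (hH : H ⊓ centralizer (pCoreOf p H : Set G) ≤ pCoreOf p H) :
    largestPReducedOf p M ≤ largestPReducedOf p H := by
  set Y := largestPReducedOf p M with hYdef
  set C := centralizer (Y : Set G) with hC
  set D := M ⊔ C with hD
  set F := ((generalizedFittingSubgroup (↥D ⧸ C.subgroupOf D)).comap
      (QuotientGroup.mk' (C.subgroupOf D))).map D.subtype with hFdef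
  have hFD : F ≤ D := Subgroup.map_subtype_le _
  have hCF : C ≤ F := fun x hx =>
    ⟨⟨x, (le_sup_right : C ≤ D) hx⟩, by
      rw [SetLike.mem_coe, Subgroup.mem_comap, show QuotientGroup.mk' (C.subgroupOf D) ⟨x, _⟩ = 1
        from (QuotientGroup.eq_one_iff _).2 hx]
      exact one_mem _, rfl⟩
  have hOH : pCoreOf p M ≤ H :=
    (pCoreOf_le_centralizer_largestPReducedOf M).trans (hCF.trans hF)
  have hYH : Y ≤ H := (largestPReducedOf_le_pCoreOf M).trans hOH
  obtain ⟨T, hOT, hTN⟩ := h.asym_exists_sylow_le hasym hOH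
  set T' := (T : Subgroup ↥H).map H.subtype with hT'
  have hTD : T' ≤ D := hTN.trans h.normalizer_O_le
  have hRT : pCoreOf p H ≤ T' := Subgroup.map_mono (Thompson.pCore_le_sylow T)
  have hRC : pCoreOf p H ≤ C :=
    h.le_centralizer_of_F_le_normalizer (hRT.trans hTD)
      (hF.trans (le_normalizer_pCoreOf p H))
      (fun x hx => by
        obtain ⟨k, hk⟩ := exists_pow_prime_pow_eq_one (isPGroup_pCoreOf H) hx
        exact ⟨k, by rw [hk]; exact one_mem _⟩)
  have hYR : Y ≤ pCoreOf p H := le_trans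
    (le_inf hYH (Subgroup.le_centralizer_iff.1 hRC)) hH
  set W := ⨆ x : H, Y.map (MulAut.conj (x : G)).toMonoidHom with hW
  have hconjD : ∀ x ∈ H, Y.map (MulAut.conj x).toMonoidHom ≤ D := fun x hx =>
    ((Subgroup.map_mono hYR).trans (conj_eq_of_mem_normalizer
      (le_normalizer_pCoreOf p H hx)).le).trans (hRT.trans hTD)
  obtain ⟨hYc, hYp⟩ := isElementaryAbelian_largestPReducedOf (p := p) M
  set T₀ : Set G := ⋃ x : H, (Y.map (MulAut.conj (x : G)).toMonoidHom : Set G) with hT₀
  have hWc : W = closure T₀ := by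
    rw [hW, hT₀, Subgroup.closure_iUnion]
    simp only [Subgroup.closure_eq]
  have hcomm : ∀ u ∈ T₀, ∀ v ∈ T₀, u * v = v * u := by
    intro u hu v hv
    obtain ⟨a, hu⟩ := Set.mem_iUnion.1 hu
    obtain ⟨b, hv⟩ := Set.mem_iUnion.1 hv
    have hc := h.asym_commute_conj hasym (g := (a : G)⁻¹ * b)
      (hconjD _ (mul_mem (inv_mem a.2) b.2)) (hconjD _ (inv_mem (mul_mem (inv_mem a.2) b.2)))
    have hv' : (a : G)⁻¹ * v * a ∈ centralizer (Y : Set G) := by
      apply hc
      rw [mem_conj]
      simpa [mul_assoc] using mem_conj.1 hv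
    have h1 := Subgroup.mem_centralizer_iff.1 hv' _ (mem_conj.1 hu)
    calc u * v = (a : G) * (((a : G)⁻¹ * u * a) * ((a : G)⁻¹ * v * a)) * (a : G)⁻¹ := by group
      _ = (a : G) * (((a : G)⁻¹ * v * a) * ((a : G)⁻¹ * u * a)) * (a : G)⁻¹ := by rw [h1]
      _ = v * u := by group
  haveI hWab : IsMulCommutative (closure T₀) := Subgroup.isMulCommutative_closure hcomm
  have hWea : Cfsg.IsElementaryAbelian p W := by
    rw [hWc]
    refine ⟨hWab, fun w hw => ?_⟩
    induction hw using Subgroup.closure_induction with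
    | mem x hx =>
      obtain ⟨a, hx⟩ := Set.mem_iUnion.1 hx
      obtain ⟨y, hy, rfl⟩ := hx
      rw [← map_pow, hYp y hy, map_one]
    | one => simp
    | mul x y hx hy ihx ihy =>
      have hxy : Commute x y := setLike_mul_comm hx hy
      rw [hxy.mul_pow, ihx, ihy, one_mul]
    | inv x hx ih => rw [inv_pow, ih, inv_one]
  have hYW : Y ≤ W := le_iSup_conj H Y
  refine hYW.trans (le_largestPReducedOf_of_reduced (iSup_conj_le hYH)
    (le_normalizer_iSup_conj H Y) hWea ?_)
  intro N hNH hHN hN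
  have hWC : centralizer (W : Set G) ≤ C := Subgroup.centralizer_le hYW
  have hND : N ⊓ D ≤ C := by
    refine h.le_centralizer_of_F_le_normalizer inf_le_right ?_ ?_
    · exact le_normalizer_inf (hF.trans hHN) (hFD.trans le_normalizer)
    · intro x hx
      obtain ⟨k, hk⟩ := hN x hx.1
      exact ⟨k, hWC hk⟩
  have hNC : N ≤ C := by
    haveI : (N.subgroupOf H).Normal := normal_subgroupOf_of_le_normalizer hHN
    haveI hK : ((N ⊓ centralizer (W : Set G)).subgroupOf H).Normal :=
      normal_subgroupOf_of_le_normalizer (le_normalizer_inf hHN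
        ((le_normalizer_iSup_conj H Y).trans (normalizer_le_normalizer_centralizer W)))
    have hle := le_sylow_sup T (N.subgroupOf H)
      ((N ⊓ centralizer (W : Set G)).subgroupOf H) (fun x hx => by
        obtain ⟨k, hk⟩ := hN x hx
        refine ⟨k, ?_, ?_⟩
        · simpa using pow_mem (Subgroup.mem_subgroupOf.1 hx) (p ^ k)
        · simpa using hk)
    intro x hx
    obtain ⟨t, ht, z, hz, he⟩ := Subgroup.mem_sup_of_normal_right.1
      (hle (show (⟨x, hNH hx⟩ : H) ∈ N.subgroupOf H from hx))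
    obtain ⟨hz1, hz2⟩ := Subgroup.mem_subgroupOf.1 hz
    have he' : (t : G) * (z : G) = x := congrArg Subtype.val he
    have htN : (t : G) ∈ N := by
      rw [← he'] at hx
      exact (N.mul_mem_cancel_right hz1).1 hx
    rw [← he']
    exact mul_mem (hND ⟨htN, hTD ⟨t, ht, rfl⟩⟩) (hWC hz2)
  intro n hn
  rw [hWc, Subgroup.centralizer_closure, Subgroup.mem_centralizer_iff]
  intro v hv
  obtain ⟨a, hv⟩ := Set.mem_iUnion.1 hv
  have h2 : (a : G)⁻¹ * n * a ∈ C := by
    refine hNC ?_
    have := (Subgroup.mem_normalizer_iff''.1 (hHN a.2) n).1 hn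
    exact this
  have h3 := Subgroup.mem_centralizer_iff.1 h2 _ (mem_conj.1 hv)
  calc v * n = (a : G) * (((a : G)⁻¹ * v * a) * ((a : G)⁻¹ * n * a)) * (a : G)⁻¹ := by group
    _ = (a : G) * (((a : G)⁻¹ * n * a) * ((a : G)⁻¹ * v * a)) * (a : G)⁻¹ := by rw [h3]
    _ = n * v := by group

/-- `ℌ_G(O_p(M))` is nonempty when `Y_M` is char-`p`-tall and asymmetric. -/
theorem asym_exists_frakH (h : Std p S Q M) (htall : IsCharPTall p (largestPReducedOf p M))
    (hasym : ¬ IsSymmetricIn (largestPReducedOf p M)) : ∃ H : Subgroup G, IsInFrakH p M H := by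
  set Y := largestPReducedOf p M with hYdef
  set C := centralizer (Y : Set G) with hC
  set O := pCoreOf p M with hOdef
  obtain ⟨T, L, hTL, hLc, hYL⟩ := htall
  obtain ⟨x, hx, hle⟩ := h.exists_conj_O_of_le_centralizer
    (R := (T : Subgroup C).map C.subtype) (Subgroup.map_subtype_le _) (T.isPGroup'.map _)
  have hYx : Y.map (MulAut.conj x).toMonoidHom = Y :=
    conj_eq_of_mem_normalizer (h.dagger_le_normalizer_Y hx)
  have hCx : C.map (MulAut.conj x).toMonoidHom = C := by rw [hC, conj_centralizer, hYx]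
  have hxOT : O.map (MulAut.conj x).toMonoidHom = (T : Subgroup C).map C.subtype :=
    sylow_map_max T hle
      ((Subgroup.map_mono (pCoreOf_le_centralizer_largestPReducedOf M)).trans hCx.le)
      (isPGroup_conj (isPGroup_pCoreOf M) x)
  set L' := L.map (MulAut.conj x⁻¹).toMonoidHom with hL'
  have hOL' : O ≤ L' := by rw [hL', le_conj_iff, inv_inv, hxOT]; exact hTL
  have hL'c := charP_conj (charP_iff.1 hLc) x⁻¹
  rw [← hL'] at hL'c
  have hYL' : ¬ Y ≤ pCoreOf p L' := by
    rw [hL', ← conj_pCoreOf, le_conj_iff, inv_inv, hYx]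
    exact hYL
  set R := pCoreOf p L' with hR
  have hRN : R ≤ normalizer (O : Set G) := by
    have h1 := h.asym_le_normalizer_O hasym (L := O ⊔ R) le_sup_left
      (isPGroup_sup (isPGroup_pCoreOf M) (isPGroup_pCoreOf L')
        (hOL'.trans (le_normalizer_pCoreOf p L')))
    exact le_sup_right.trans h1
  obtain ⟨H₀, -, hH₀⟩ := exists_minimal_le_of_wellFoundedLT
    (fun X : Subgroup G => O ⊔ R ≤ X ∧ X ≤ L' ∧ ¬ Y ≤ pCoreOf p X)
      L' ⟨sup_le hOL' (pCoreOf_le L'), le_rfl, hYL'⟩
  obtain ⟨hORH, hH₀L, hYH₀⟩ := hH₀.prop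
  have hOH₀ : O ≤ H₀ := le_sup_left.trans hORH
  have hRH₀ : R ≤ H₀ := le_sup_right.trans hORH
  have hH₀c := charP_of_pCoreOf_le hL'c hH₀L hRH₀
  set H := ⨆ g : H₀, O.map (MulAut.conj (g : G)).toMonoidHom with hH
  have hHH₀ : H ≤ H₀ := iSup_conj_le hOH₀
  have hH₀H : H₀ ≤ normalizer (H : Set G) := le_normalizer_iSup_conj H₀ O
  refine ⟨H, charP_iff.2 (charP_normal hH₀c hHH₀ hH₀H), le_iSup_conj H₀ O,
    fun hle => hYH₀ (hle.trans (pCoreOf_mono_of_normal hHH₀ hH₀H)), fun P hOP hPH => ?_⟩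
  have hPL : P ≤ L' := hPH.le.trans (hHH₀.trans hH₀L)
  by_cases hY : Y ≤ pCoreOf p (P ⊔ R)
  · exact (le_inf hY ((largestPReducedOf_le_pCoreOf M).trans hOP)).trans
      (pCoreOf_inf_le le_sup_left)
  exfalso
  have hPRmem : O ⊔ R ≤ P ⊔ R ∧ P ⊔ R ≤ L' ∧ ¬ Y ≤ pCoreOf p (P ⊔ R) :=
    ⟨sup_le_sup_right hOP R, sup_le hPL (pCoreOf_le L'), hY⟩
  have hPReq : H₀ ≤ P ⊔ R :=
    hH₀.le_of_le hPRmem (sup_le (hPH.le.trans hHH₀) hRH₀)
  refine absurd hPH (not_lt_of_ge ?_)
  rw [hH]
  refine iSup_le fun g => ?_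
  obtain ⟨a, ha, r, hr, he⟩ := exists_mul_of_mem_sup (hPL.trans (le_normalizer_pCoreOf p L'))
    (hPReq g.2)
  rw [he, conj_mul, conj_eq_of_mem_normalizer (hRN hr)]
  exact (Subgroup.map_mono hOP).trans (conj_eq_of_mem ha).le

/-! ### Structure of the members of `ℌ_G(O_p(M))` -/

variable {H : Subgroup G}

theorem frakH_pCoreOf_le (h : Std p S Q M) (hasym : ¬ IsSymmetricIn (largestPReducedOf p M))
    (hH : IsInFrakH p M H) : pCoreOf p H ≤ normalizer (pCoreOf p M : Set G) :=
  le_sup_right.trans (h.asym_le_normalizer_O hasym (L := pCoreOf p M ⊔ pCoreOf p H) le_sup_left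
    (isPGroup_sup (isPGroup_pCoreOf M) (isPGroup_pCoreOf H)
      (hH.2.1.trans (le_normalizer_pCoreOf p H))))

theorem frakH_eq_iSup_conj (hH : IsInFrakH p M H) :
    (⨆ x : H, (pCoreOf p M).map (MulAut.conj (x : G)).toMonoidHom) = H := by
  by_contra hne
  have hlt := lt_of_le_of_ne (iSup_conj_le hH.2.1) hne
  exact hH.2.2.1 ((hH.2.2.2 _ (le_iSup_conj H _) hlt).trans
    (pCoreOf_mono_of_normal hlt.le (le_normalizer_iSup_conj H _)))

theorem frakH_residual_sup (hH : IsInFrakH p M H) :
    (pResidual p ↥H).map H.subtype ⊔ pCoreOf p M = H := by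
  set O := pCoreOf p M with hO
  set π := QuotientGroup.mk' (pResidual p ↥H) with hπ
  haveI : (pResidual p ↥H).Normal := inferInstance
  have hnil : Group.IsNilpotent (↥H ⧸ pResidual p ↥H) :=
    (Thompson.isPGroup_quotient_pResidual (p := p) (G := ↥H)).isNilpotent
  have htop : normalClosure (((O.subgroupOf H).map π : Subgroup (↥H ⧸ pResidual p ↥H)) :
      Set (↥H ⧸ pResidual p ↥H)) = ⊤ := by
    have h1 : normalClosure ((O.subgroupOf H : Subgroup ↥H) : Set ↥H) = ⊤ := by
      apply Subgroup.map_injective H.subtype_injective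
      rw [normalClosure_map_eq_iSup hH.2.1, frakH_eq_iSup_conj hH, ← MonoidHom.range_eq_map,
        Subgroup.range_subtype]
    rw [Subgroup.coe_map, ← Subgroup.map_normalClosure _ π (QuotientGroup.mk'_surjective _)]
    rw [h1,
      ← MonoidHom.range_eq_map, MonoidHom.range_eq_top.2 (QuotientGroup.mk'_surjective _)]
  have h2 := eq_top_of_normalClosure_eq_top hnil htop
  refine le_antisymm (sup_le (Subgroup.map_subtype_le _) hH.2.1) fun x hx => ?_
  obtain ⟨o, ho, he⟩ : π ⟨x, hx⟩ ∈ (O.subgroupOf H).map π := h2 ▸ Subgroup.mem_top _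
  rw [hπ, QuotientGroup.mk'_apply, QuotientGroup.mk'_apply, QuotientGroup.eq] at he
  have h3 : (o : G) * ((o : G)⁻¹ * x) ∈ (pResidual p ↥H).map H.subtype ⊔ O :=
    mul_mem (Subgroup.mem_sup_right ho) (Subgroup.mem_sup_left ⟨_, he, by simp⟩)
  rwa [mul_inv_cancel_left] at h3

theorem frakH_commutator_eq (hH : IsInFrakH p M H) :
    ⁅(pResidual p ↥H).map H.subtype, largestPReducedOf p M⁆ = (pResidual p ↥H).map H.subtype ∧
      (⨆ x : H, (largestPReducedOf p M).map (MulAut.conj (x : G)).toMonoidHom) =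
        (pResidual p ↥H).map H.subtype ⊔ largestPReducedOf p M := by
  set O := pCoreOf p M with hO
  set Y := largestPReducedOf p M with hY
  set R := (pResidual p ↥H).map H.subtype with hR
  have hYO : Y ≤ O := largestPReducedOf_le_pCoreOf M
  have hYH : Y ≤ H := hYO.trans hH.2.1
  have hRH : R ≤ H := Subgroup.map_subtype_le _
  have hHR : H ≤ normalizer (R : Set G) := le_normalizer_pResidual_map H
  have hOR : O ≤ normalizer (R : Set G) := hH.2.1.trans hHR
  have hOY : O ≤ normalizer (Y : Set G) :=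
    (pCoreOf_le M).trans (le_normalizer_largestPReducedOf M)
  set R₀ := ⁅R, Y⁆ with hR₀
  have hR₀R : R₀ ≤ R := commutator_le_left_of_le_normalizer (hYH.trans hHR)
  have hHR₀ : H ≤ normalizer (R₀ : Set G) := by
    rw [← frakH_residual_sup hH]
    refine sup_le (Coprime.le_normalizer_commutator_left Y R) fun g hg => ?_
    apply mem_normalizer_of_conj_eq
    rw [hR₀, Subgroup.map_commutator, conj_eq_of_mem_normalizer (hOR hg),
      conj_eq_of_mem_normalizer (hOY hg)]
  have hW : (⨆ x : H, Y.map (MulAut.conj (x : G)).toMonoidHom) ≤ R₀ ⊔ Y := by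
    refine iSup_le fun g => ?_
    have hg : (g : G) ∈ R ⊔ O := by rw [frakH_residual_sup hH]; exact g.2
    obtain ⟨o, ho, r, hr, he⟩ := exists_mul_of_mem_sup hOR (by rwa [sup_comm] at hg)
    have e : (g : G) = (o * r * o⁻¹) * o := by rw [he]; group
    have hr' : o * r * o⁻¹ ∈ R := (Subgroup.mem_normalizer_iff.1 (hOR ho) r).1 hr
    rw [e, conj_mul, conj_eq_of_mem_normalizer (hOY ho)]
    rintro _ ⟨y, hy, rfl⟩
    show o * r * o⁻¹ * y * (o * r * o⁻¹)⁻¹ ∈ R₀ ⊔ Y
    have h1 := mul_mem (Subgroup.mem_sup_left (Subgroup.commutator_mem_commutator hr' hy))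
      (Subgroup.mem_sup_right hy : y ∈ R₀ ⊔ Y)
    simpa [commutatorElement_def, mul_assoc] using h1
  have hPeq : R₀ ⊔ O = H := by
    by_contra hne
    have hlt : R₀ ⊔ O < H := lt_of_le_of_ne (sup_le (hR₀R.trans hRH) hH.2.1) hne
    have hYP := hH.2.2.2 _ le_sup_right hlt
    set W := ⨆ x : H, Y.map (MulAut.conj (x : G)).toMonoidHom with hWdef
    have hWP : W ≤ R₀ ⊔ O := hW.trans (sup_le_sup_left hYO _)
    exact hH.2.2.1 (((le_inf hYP (le_iSup_conj H Y)).trans (pCoreOf_inf_le hWP)).trans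
      (pCoreOf_mono_of_normal (iSup_conj_le hYH) (le_normalizer_iSup_conj H Y)))
  have hRR₀ : R ≤ R₀ := by
    rw [hR, pResidual_map_le_iff]
    intro x hx hc
    rw [← hPeq, sup_comm] at hx
    obtain ⟨k, hk⟩ := pow_mem_of_mem_sup (isPGroup_pCoreOf M) (hH.2.1.trans hHR₀) hx
    exact mem_of_pow_mem_of_coprime hk hc
  refine ⟨le_antisymm hR₀R hRR₀,
    le_antisymm (hW.trans (sup_le_sup_right hR₀R _)) (sup_le ?_ (le_iSup_conj H Y))⟩
  refine hRR₀.trans (le_trans (Subgroup.commutator_mono le_rfl (le_iSup_conj H Y)) ?_)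
  exact commutator_le_of_le_normalizer (hRH.trans (le_normalizer_iSup_conj H Y))

end Std

end Cfsg.Agent.LargeSub
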