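import Cfsg.Agent.LargeSub.Reduced

/-!
Consequences of the basic property `M ∈ 𝔐_G(S)` in the presence of a large subgroup.
-/

set_option autoImplicit false
set_option linter.unusedSectionVars false
set_option linter.style.haveILetI false

open Subgroup Cfsg

namespace Cfsg.Agent.LargeSub

variable {G : Type*} [Group G] [Finite G] {p : ℕ} [Fact p.Prime]

/-- For a large `p`-subgroup `Q`: `C_G(P) ≤ N_G(Q)` when `Q` normalizes the nontrivial
`p`-subgroup `P`. -/
theorem centralizer_le_normalizer_large {Q P : Subgroup G} (hQp : IsPGroup p Q)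
    (hQ : IsLarge Q) (hP : IsPGroup p P) (hP1 : P ≠ ⊥) (hn : Q ≤ normalizer (P : Set G)) :
    centralizer (P : Set G) ≤ normalizer (Q : Set G) :=
  ((Subgroup.centralizer_le (inf_le_left : P ⊓ centralizer (Q : Set G) ≤ P)).trans
    (Subgroup.centralizer_le_normalizer _)).trans
    (hQ.2 _ inf_le_right (exists_ne_one_inf_centralizer hQp hP hP1 hn))

/-- A subgroup containing a large `p`-subgroup and normalizing a nontrivial `p`-subgroup of itself
has characteristic `p`. -/
theorem charP_of_large {Q P X : Subgroup G} (hQp : IsPGroup p Q) (hQ : IsLarge Q)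
    (hP : IsPGroup p P) (hP1 : P ≠ ⊥) (hQX : Q ≤ X) (hPX : P ≤ X)
    (hn : X ≤ normalizer (P : Set G)) :
    X ⊓ centralizer (pCoreOf p X : Set G) ≤ pCoreOf p X := by
  set R := pCoreOf p X with hR
  set D := X ⊓ centralizer (R : Set G) with hD
  have hPR : P ≤ R := le_pCoreOf hPX hn hP
  have hDQ : D ≤ normalizer (Q : Set G) :=
    (inf_le_right.trans (Subgroup.centralizer_le hPR)).trans
      (centralizer_le_normalizer_large hQp hQ hP hP1 (hQX.trans hn))
  have hXD : X ≤ normalizer (D : Set G) :=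
    le_normalizer_inf le_normalizer
      ((le_normalizer_pCoreOf p X).trans (normalizer_le_normalizer_centralizer R))
  have hQDR : Q ⊓ D ≤ R :=
    (le_pCoreOf inf_le_right (le_normalizer_inf hDQ le_normalizer) hQp.to_inf_left).trans
      (pCoreOf_mono_of_normal inf_le_left hXD)
  refine le_pCoreOf inf_le_left hXD (isPGroup_of_coprime_trivial fun d hd hcop => ?_)
  have hcomm : ∀ q ∈ Q, q * d = d * q := by
    intro q hq
    have h1 : q * d * q⁻¹ * d⁻¹ ∈ Q := by
      have h2 : d * q⁻¹ * d⁻¹ ∈ Q :=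
        (Subgroup.mem_normalizer_iff.1 (hDQ hd) q⁻¹).1 (inv_mem hq)
      have h3 := mul_mem hq h2
      simpa [mul_assoc] using h3
    have h2 : q * d * q⁻¹ * d⁻¹ ∈ D :=
      mul_mem ((Subgroup.mem_normalizer_iff.1 (hXD (hQX hq)) d).1 hd) (inv_mem hd)
    have h3 : q * d * q⁻¹ * d⁻¹ ∈ R := hQDR ⟨h1, h2⟩
    refine commute_of_commutator_pElement (p := p) hcop ?_ ?_
    · obtain ⟨k, hk⟩ := hQp ⟨_, h1⟩
      exact ⟨k, congrArg Subtype.val hk⟩
    · exact Subgroup.mem_centralizer_iff.1 hd.2 _ h3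
  have hdQ : d ∈ Q := hQ.1 (Subgroup.mem_centralizer_iff.2 fun q hq => hcomm q hq)
  obtain ⟨k, hk⟩ := hQp ⟨d, hdQ⟩
  exact eq_one_of_pElement_of_coprime ⟨k, congrArg Subtype.val hk⟩ hcop

theorem normalizer_mem_charPSubgroups {Q P : Subgroup G} (hQp : IsPGroup p Q) (hQ : IsLarge Q)
    (hP : IsPGroup p P) (hP1 : P ≠ ⊥) (hn : Q ≤ normalizer (P : Set G)) :
    normalizer (P : Set G) ∈ charPSubgroups p G := by
  have hPR : P ≤ pCoreOf p (normalizer (P : Set G)) := le_pCoreOf le_normalizer le_rfl hP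
  refine ⟨pCore_ne_bot_iff.2 fun h => hP1 (le_bot_iff.1 (h ▸ hPR)), fun x hx => ?_⟩
  refine charP_of_large hQp hQ hP hP1 hn le_normalizer le_rfl ⟨?_, hx⟩
  exact Subgroup.centralizer_le_normalizer _ (Subgroup.centralizer_le hPR hx)

theorem exists_maxCharP_ge {L : Subgroup G} (hL : L ∈ charPSubgroups p G) :
    ∃ X ∈ maxCharPSubgroups p G, L ≤ X := by
  obtain ⟨X, hLX, hX⟩ := (Set.toFinite (charPSubgroups p G)).exists_le_maximal hL
  exact ⟨X, ⟨hX.prop, fun L' hL' hle => le_antisymm (hX.le_of_ge hL' hle) hle⟩, hLX⟩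

/-- The standing hypotheses. -/
structure Std (p : ℕ) (S : Sylow p G) (Q M : Subgroup G) : Prop where
  isPGroup_Q : IsPGroup p Q
  Q_le : Q ≤ (S : Subgroup G)
  large : IsLarge Q
  S_le : (S : Subgroup G) ≤ M
  frakM : IsInFrakM p M

namespace Std

variable {S : Sylow p G} {Q M : Subgroup G}

theorem M_le_normalizer_Y (_h : Std p S Q M) :
    M ≤ normalizer (largestPReducedOf p M : Set G) :=
  le_normalizer_largestPReducedOf M

theorem Q_le_M (h : Std p S Q M) : Q ≤ M := h.Q_le.trans h.S_le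

theorem O_ne_bot (h : Std p S Q M) : pCoreOf p M ≠ ⊥ := pCore_ne_bot_iff.1 h.frakM.1.1

theorem centralizer_O_le (h : Std p S Q M) :
    centralizer (pCoreOf p M : Set G) ≤ pCoreOf p M := h.frakM.1.2

theorem O_le_S (_h : Std p S Q M) (hSM : (S : Subgroup G) ≤ M) :
    pCoreOf p M ≤ (S : Subgroup G) := by
  rintro _ ⟨x, hx, rfl⟩
  have h1 := Thompson.pCore_le_sylow (S.subtype hSM) hx
  rwa [Sylow.coe_subtype, Subgroup.mem_subgroupOf] at h1

theorem O_le_S' (h : Std p S Q M) : pCoreOf p M ≤ (S : Subgroup G) := h.O_le_S h.S_le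

theorem pSubgroup_centralizing_le (h : Std p S Q M) {R : Subgroup G} (hR : R ≤ M)
    (hRC : R ≤ centralizer (largestPReducedOf p M : Set G)) (hRp : IsPGroup p R) :
    R ≤ pCoreOf p M := by
  set C := M ⊓ centralizer (largestPReducedOf p M : Set G) with hC
  obtain ⟨T, hT⟩ := exists_sylow_subgroup_le (X := C) (le_inf hR hRC) hRp
  haveI : (T : Subgroup C).Normal := h.frakM.2.2.2.2.1 T
  haveI : (T : Subgroup C).Characteristic := Sylow.characteristic_of_normal T ‹_›
  have hTC : (T : Subgroup C) ≤ pCore p C := Thompson.le_pCore ‹_› T.isPGroup'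
  refine hT.trans ((Subgroup.map_mono hTC).trans ?_)
  exact pCoreOf_mono_of_normal (H := M) inf_le_left
    (le_normalizer_inf le_normalizer
      (h.M_le_normalizer_Y.trans (normalizer_le_normalizer_centralizer _)))

theorem S_inf_centralizer_eq (h : Std p S Q M) :
    (S : Subgroup G) ⊓ centralizer (largestPReducedOf p M : Set G) = pCoreOf p M :=
  le_antisymm
    (h.pSubgroup_centralizing_le (inf_le_left.trans h.S_le) inf_le_right
      S.isPGroup'.to_inf_left)
    (le_inf h.O_le_S' (pCoreOf_le_centralizer_largestPReducedOf M))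

theorem Y_ne_bot (h : Std p S Q M) : largestPReducedOf p M ≠ ⊥ := by
  intro hY
  have hC : M ⊓ centralizer (largestPReducedOf p M : Set G) = M := by
    rw [inf_eq_left, hY]
    intro x _
    rw [Subgroup.mem_centralizer_iff]
    intro y hy
    rw [SetLike.mem_coe, Subgroup.mem_bot] at hy
    simp [hy]
  have h6 := h.frakM.2.2.2.2.2
  rw [hC, Subgroup.subgroupOf_self, ← MonoidHom.range_eq_map,
    MonoidHom.range_eq_top.2 (QuotientGroup.mk'_surjective _)] at h6
  have htop : pCore p ↥M = ⊤ := by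
    have h7 : (⊥ : Subgroup (↥M ⧸ pCore p ↥M)) = ⊤ :=
      frattini_nongenerating (by rw [top_le_iff.1 h6, sup_top_eq])
    rw [eq_top_iff]
    intro x _
    have h8 : (x : ↥M ⧸ pCore p ↥M) ∈ (⊥ : Subgroup _) := h7 ▸ Subgroup.mem_top _
    exact (QuotientGroup.eq_one_iff x).1 (Subgroup.mem_bot.1 h8)
  have hM : IsPGroup p M := Thompson.pCore_eq_top_iff.1 htop
  haveI : Nontrivial M := by
    rw [Subgroup.nontrivial_iff_ne_bot]
    intro hb
    exact h.O_ne_bot (le_bot_iff.1 ((pCoreOf_le M).trans hb.le))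
  exact largestPReduced_ne_bot hM
    ((Subgroup.map_eq_bot_iff_of_injective _ M.subtype_injective).1 hY)

theorem M_mem_normalizer_mem (h : Std p S Q M) {P : Subgroup G} (hP : IsPGroup p P)
    (hP1 : P ≠ ⊥) (hMP : M ≤ normalizer (P : Set G)) :
    normalizer (P : Set G) ≤ M ⊔ centralizer (largestPReducedOf p M : Set G) := by
  obtain ⟨X, hX, hle⟩ := exists_maxCharP_ge
    (normalizer_mem_charPSubgroups h.isPGroup_Q h.large hP hP1 (h.Q_le_M.trans hMP))
  rw [← h.frakM.2.2.1 X hX (hMP.trans hle)]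
  exact hle

theorem dagger_le_normalizer_Y (h : Std p S Q M) :
    M ⊔ centralizer (largestPReducedOf p M : Set G) ≤
      normalizer (largestPReducedOf p M : Set G) :=
  sup_le h.M_le_normalizer_Y (Subgroup.centralizer_le_normalizer _)

/-- `N_G(Y_M) = M†`. -/
theorem normalizer_Y_eq (h : Std p S Q M) :
    normalizer (largestPReducedOf p M : Set G) =
      M ⊔ centralizer (largestPReducedOf p M : Set G) :=
  le_antisymm
    (h.M_mem_normalizer_mem (isPGroup_largestPReducedOf M) h.Y_ne_bot h.M_le_normalizer_Y)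
    h.dagger_le_normalizer_Y

theorem normalizer_O_le (h : Std p S Q M) :
    normalizer (pCoreOf p M : Set G) ≤ M ⊔ centralizer (largestPReducedOf p M : Set G) :=
  h.M_mem_normalizer_mem (isPGroup_pCoreOf M) h.O_ne_bot (le_normalizer_pCoreOf p M)

theorem exists_mul_of_mem_dagger (h : Std p S Q M) {x : G}
    (hx : x ∈ M ⊔ centralizer (largestPReducedOf p M : Set G)) :
    ∃ m ∈ M, ∃ c ∈ centralizer (largestPReducedOf p M : Set G), x = m * c :=
  exists_mul_of_mem_sup
    (h.M_le_normalizer_Y.trans (normalizer_le_normalizer_centralizer _)) hx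

/-- A `p`-subgroup of `C_G(Y_M)` lies in a conjugate of `O_p(M)` by an element of `M†`. -/
theorem exists_conj_O_of_le_centralizer (h : Std p S Q M) {R : Subgroup G}
    (hR : R ≤ centralizer (largestPReducedOf p M : Set G)) (hRp : IsPGroup p R) :
    ∃ x ∈ M ⊔ centralizer (largestPReducedOf p M : Set G),
      R ≤ (pCoreOf p M).map (MulAut.conj x).toMonoidHom := by
  obtain ⟨x, hx, hle⟩ := exists_conj_le_of_sylow_le S (h.S_le.trans le_sup_left)
    (hR.trans le_sup_right) hRp
  refine ⟨x, hx, ?_⟩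
  rw [← h.S_inf_centralizer_eq, conj_inf, conj_centralizer,
    conj_eq_of_mem_normalizer (h.dagger_le_normalizer_Y hx)]
  exact le_inf hle hR

theorem eq_O_of_O_le (h : Std p S Q M) {R : Subgroup G} (hOR : pCoreOf p M ≤ R)
    (hR : R ≤ centralizer (largestPReducedOf p M : Set G)) (hRp : IsPGroup p R) :
    R = pCoreOf p M := by
  obtain ⟨x, -, hle⟩ := h.exists_conj_O_of_le_centralizer hR hRp
  refine (Subgroup.eq_of_le_of_card_ge hOR ?_).symm
  exact (Subgroup.card_le_of_le hle).trans (card_conj _ x).le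

theorem inf_centralizer_eq (h : Std p S Q M) {L : Subgroup G} (hOL : pCoreOf p M ≤ L)
    (hLp : IsPGroup p L) :
    L ⊓ centralizer (largestPReducedOf p M : Set G) = pCoreOf p M :=
  h.eq_O_of_O_le (le_inf hOL (pCoreOf_le_centralizer_largestPReducedOf M)) inf_le_right
    hLp.to_inf_left

theorem le_normalizer_O_of_le_dagger (h : Std p S Q M) {L : Subgroup G}
    (hOL : pCoreOf p M ≤ L) (hLp : IsPGroup p L)
    (hL : L ≤ M ⊔ centralizer (largestPReducedOf p M : Set G)) :
    L ≤ normalizer (pCoreOf p M : Set G) := by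
  rw [← h.inf_centralizer_eq hOL hLp]
  exact le_normalizer_inf le_normalizer
    ((hL.trans h.dagger_le_normalizer_Y).trans (normalizer_le_normalizer_centralizer _))

/-! ### Asymmetric `Y_M` -/

theorem asym_mem_dagger_of_gen (h : Std p S Q M)
    (hasym : ¬ IsSymmetricIn (largestPReducedOf p M)) {g : G}
    (h1 : (pCoreOf p M).map (MulAut.conj g).toMonoidHom ≤ M)
    (h2 : (pCoreOf p M).map (MulAut.conj g⁻¹).toMonoidHom ≤ M) :
    g ∈ M ⊔ centralizer (largestPReducedOf p M : Set G) := by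
  set Y := largestPReducedOf p M with hY
  set O := pCoreOf p M with hO
  let Gen : Set G := {s | O.map (MulAut.conj s).toMonoidHom ≤ M ∧
    O.map (MulAut.conj s⁻¹).toMonoidHom ≤ M}
  let W : ℕ → Set G := fun n =>
    Nat.rec {1} (fun _ prev => {x | ∃ s ∈ Gen, ∃ r ∈ prev, x = s * r}) n
  have hWsucc : ∀ n x, x ∈ W (n + 1) ↔ ∃ s ∈ Gen, ∃ r ∈ W n, x = s * r := fun n x => Iff.rfl
  have hWright : ∀ n, ∀ r ∈ W n, ∀ s ∈ Gen, r * s ∈ W (n + 1) := by
    intro n
    induction n with
    | zero =>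
      intro r hr s hs
      rw [Set.mem_singleton_iff.1 hr, one_mul]
      exact ⟨s, hs, 1, rfl, (mul_one s).symm⟩
    | succ n ih =>
      intro r hr s hs
      obtain ⟨t, ht, r', hr', rfl⟩ := hr
      exact ⟨t, ht, r' * s, ih r' hr' s hs, mul_assoc _ _ _⟩
  have hGinv : ∀ s ∈ Gen, s⁻¹ ∈ Gen := fun s hs => ⟨hs.2, by rw [inv_inv]; exact hs.1⟩
  have hWinv : ∀ n, ∀ x ∈ W n, x⁻¹ ∈ W n := by
    intro n
    induction n with
    | zero =>
      intro x hx
      rw [Set.mem_singleton_iff.1 hx, inv_one]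
      exact rfl
    | succ n ih =>
      intro x hx
      obtain ⟨s, hs, r, hr, rfl⟩ := hx
      rw [mul_inv_rev]
      exact hWright n _ (ih r hr) _ (hGinv s hs)
  have hgood : ∀ n, ∀ x ∈ W n, Y.map (MulAut.conj x).toMonoidHom ≤ O := by
    intro n
    induction n with
    | zero =>
      intro x hx
      rw [Set.mem_singleton_iff.1 hx, conj_one]
      exact largestPReducedOf_le_pCoreOf M
    | succ n ih =>
      intro x hx
      have key : ∀ z ∈ W (n + 1), Y.map (MulAut.conj z).toMonoidHom ≤ M := by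
        intro z hz
        obtain ⟨s, hs, r, hr, rfl⟩ := hz
        rw [conj_mul]
        exact (Subgroup.map_mono (ih r hr)).trans hs.1
      have hxM := key x hx
      have hn1 : Y.map (MulAut.conj x).toMonoidHom ≤ normalizer (Y : Set G) :=
        hxM.trans h.M_le_normalizer_Y
      have hn2 : Y ≤ normalizer (Y.map (MulAut.conj x).toMonoidHom : Set G) := by
        rw [← conj_normalizer, le_conj_iff]
        exact (key _ (hWinv (n + 1) x hx)).trans h.M_le_normalizer_Y
      have hc : ⁅Y, Y.map (MulAut.conj x).toMonoidHom⁆ = ⊥ := by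
        by_contra hne
        exact hasym ⟨x, hne, le_inf (commutator_le_left_of_le_normalizer hn1)
          (commutator_le_of_le_normalizer hn2)⟩
      rw [Subgroup.commutator_comm, Subgroup.commutator_eq_bot_iff_le_centralizer] at hc
      exact h.pSubgroup_centralizing_le hxM hc
        (isPGroup_conj (isPGroup_largestPReducedOf M) x)
  set P := ⨆ x : {x : G // ∃ n, x ∈ W n}, Y.map (MulAut.conj (x : G)).toMonoidHom with hP
  have hPO : P ≤ O := iSup_le fun ⟨x, n, hx⟩ => hgood n x hx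
  have hYP : Y ≤ P := (conj_one Y).ge.trans
    (le_iSup (fun x : {x : G // ∃ n, x ∈ W n} => Y.map (MulAut.conj (x : G)).toMonoidHom)
      ⟨1, 0, rfl⟩)
  have hGenP : ∀ s ∈ Gen, s ∈ normalizer (P : Set G) := by
    intro s hs
    apply mem_normalizer_of_conj_le
    rw [hP, Subgroup.map_iSup]
    refine iSup_le fun ⟨x, n, hx⟩ => ?_
    rw [← conj_mul]
    exact le_iSup (fun y : {x : G // ∃ n, x ∈ W n} => Y.map (MulAut.conj (y : G)).toMonoidHom)
      ⟨s * x, n + 1, (hWsucc _ _).2 ⟨s, hs, x, hx, rfl⟩⟩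
  have hMP : M ≤ normalizer (P : Set G) := fun m hm => by
    refine hGenP m ⟨?_, ?_⟩
    · exact ((Subgroup.map_mono (pCoreOf_le M)).trans (conj_eq_of_mem hm).le)
    · exact ((Subgroup.map_mono (pCoreOf_le M)).trans (conj_eq_of_mem (inv_mem hm)).le)
  refine h.M_mem_normalizer_mem ((isPGroup_pCoreOf M).to_le hPO) ?_ hMP (hGenP g ⟨h1, h2⟩)
  exact fun hb => h.Y_ne_bot (le_bot_iff.1 (hYP.trans hb.le))

theorem asym_normalizer_inf_le (h : Std p S Q M)
    (hasym : ¬ IsSymmetricIn (largestPReducedOf p M)) {R : Subgroup G}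
    (hOR : pCoreOf p M ≤ R) (hRp : IsPGroup p R)
    (hR : R ≤ M ⊔ centralizer (largestPReducedOf p M : Set G)) :
    normalizer (R : Set G) ≤ M ⊔ centralizer (largestPReducedOf p M : Set G) := by
  intro x hx
  set D := M ⊔ centralizer (largestPReducedOf p M : Set G) with hD
  obtain ⟨c, hc, hle⟩ := exists_conj_le_of_sylow_le S (h.S_le.trans le_sup_left) hR hRp
  have hRS : R.map (MulAut.conj c⁻¹).toMonoidHom ≤ (S : Subgroup G) := le_conj_iff.1 hle
  have hcO : (pCoreOf p M).map (MulAut.conj c⁻¹).toMonoidHom = pCoreOf p M := by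
    refine Subgroup.eq_of_le_of_card_ge ?_ (card_conj _ _).ge
    rw [← h.S_inf_centralizer_eq]
    refine le_inf ((Subgroup.map_mono ?_).trans hRS) ?_
    · rw [h.S_inf_centralizer_eq]; exact hOR
    · rw [h.S_inf_centralizer_eq]
      refine (Subgroup.map_mono (pCoreOf_le_centralizer_largestPReducedOf M)).trans ?_
      rw [conj_centralizer, conj_eq_of_mem_normalizer (h.dagger_le_normalizer_Y (inv_mem hc))]
  have key : ∀ y ∈ normalizer (R : Set G),
      (pCoreOf p M).map (MulAut.conj (c⁻¹ * y * c)).toMonoidHom ≤ M := by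
    intro y hy
    have e1 : (pCoreOf p M).map (MulAut.conj c).toMonoidHom = pCoreOf p M := by
      conv_lhs => rw [← hcO, conj_conj_inv]
    rw [conj_mul, e1, conj_mul]
    refine le_trans (Subgroup.map_mono (le_trans (Subgroup.map_mono hOR) ?_))
      (hRS.trans h.S_le)
    rw [conj_eq_of_mem_normalizer hy]
  have h1 := h.asym_mem_dagger_of_gen hasym (key x hx) (by
    have h2 := key x⁻¹ (inv_mem hx)
    rwa [show c⁻¹ * x⁻¹ * c = (c⁻¹ * x * c)⁻¹ by group] at h2)
  have h3 := D.mul_mem (D.mul_mem hc h1) (D.inv_mem hc)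
  rwa [show c * (c⁻¹ * x * c) * c⁻¹ = x by group] at h3

/-- If `Y_M` is asymmetric, `p`-overgroups of `O_p(M)` lie in `N_G(O_p(M))`. -/
theorem asym_le_normalizer_O (h : Std p S Q M)
    (hasym : ¬ IsSymmetricIn (largestPReducedOf p M)) {L : Subgroup G}
    (hOL : pCoreOf p M ≤ L) (hLp : IsPGroup p L) :
    L ≤ normalizer (pCoreOf p M : Set G) := by
  refine h.le_normalizer_O_of_le_dagger hOL hLp ?_
  set D := M ⊔ centralizer (largestPReducedOf p M : Set G) with hD
  by_contra hLD
  have hlt : L ⊓ D < L := lt_of_le_of_ne inf_le_left fun he => hLD (inf_eq_left.1 he)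
  obtain ⟨x, hxL, hx0, hxN⟩ := exists_normalizer_not_mem hLp hlt
  exact hx0 ⟨hxL, h.asym_normalizer_inf_le hasym
    (le_inf hOL ((pCoreOf_le M).trans le_sup_left)) hLp.to_inf_left inf_le_right hxN⟩

theorem asym_normalizer_le (h : Std p S Q M)
    (hasym : ¬ IsSymmetricIn (largestPReducedOf p M)) {L : Subgroup G}
    (hOL : pCoreOf p M ≤ L) (hLp : IsPGroup p L) :
    normalizer (L : Set G) ≤ normalizer (pCoreOf p M : Set G) := by
  intro x hx
  have hLD : L ≤ M ⊔ centralizer (largestPReducedOf p M : Set G) :=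
    (h.asym_le_normalizer_O hasym hOL hLp).trans h.normalizer_O_le
  have hxD := h.asym_normalizer_inf_le hasym hOL hLp hLD hx
  apply mem_normalizer_of_conj_le
  rw [← h.inf_centralizer_eq hOL hLp, conj_inf, conj_eq_of_mem_normalizer hx, conj_centralizer,
    conj_eq_of_mem_normalizer (h.dagger_le_normalizer_Y hxD)]

/-- If `Y_M` is asymmetric, `O_p(M)` is weakly closed in `S` with respect to `G`. -/
theorem asym_weaklyClosed (h : Std p S Q M)
    (hasym : ¬ IsSymmetricIn (largestPReducedOf p M)) :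
    IsWeaklyClosed (pCoreOf p M) (S : Subgroup G) := by
  refine ⟨h.O_le_S', fun g hg => ?_⟩
  set S' := (S : Subgroup G).map (MulAut.conj g⁻¹).toMonoidHom with hS'
  have hOS' : pCoreOf p M ≤ S' := conj_le_iff.1 hg
  have hS'N : S' ≤ normalizer (pCoreOf p M : Set G) :=
    h.asym_le_normalizer_O hasym hOS' (isPGroup_conj S.isPGroup' _)
  have hSN : (S : Subgroup G) ≤ normalizer (pCoreOf p M : Set G) :=
    h.asym_le_normalizer_O hasym h.O_le_S' S.isPGroup'
  obtain ⟨x, hx, hle⟩ := exists_conj_le_of_sylow_le S hSN hS'N (isPGroup_conj S.isPGroup' _)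
  have heq : S' = (S : Subgroup G).map (MulAut.conj x).toMonoidHom :=
    Subgroup.eq_of_le_of_card_ge hle (by rw [card_conj, card_conj])
  have hgx : g * x ∈ normalizer ((S : Subgroup G) : Set G) := by
    apply mem_normalizer_of_conj_eq
    rw [conj_mul, ← heq, hS', conj_conj_inv]
  have hg' : g ∈ normalizer (pCoreOf p M : Set G) := by
    have h1 := mul_mem (h.asym_normalizer_le hasym h.O_le_S' S.isPGroup' hgx) (inv_mem hx)
    rwa [mul_inv_cancel_right] at h1
  exact conj_eq_of_mem_normalizer hg'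

/-- Two conjugates of `O_p(M)` in a common `p`-subgroup coincide. -/
theorem asym_conj_eq (h : Std p S Q M)
    (hasym : ¬ IsSymmetricIn (largestPReducedOf p M)) {R : Subgroup G} (hRp : IsPGroup p R)
    (hOR : pCoreOf p M ≤ R) {g : G}
    (hg : (pCoreOf p M).map (MulAut.conj g).toMonoidHom ≤ R) :
    (pCoreOf p M).map (MulAut.conj g).toMonoidHom = pCoreOf p M := by
  obtain ⟨T, hT⟩ := hRp.exists_le_sylow
  obtain ⟨y, hy⟩ := MulAction.exists_smul_eq G T S
  have hTS : (T : Subgroup G).map (MulAut.conj y).toMonoidHom = (S : Subgroup G) := by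
    rw [← hy, Sylow.coe_subgroup_smul]; rfl
  have h1 := (h.asym_weaklyClosed hasym).2 y
    ((Subgroup.map_mono (hOR.trans hT)).trans hTS.le)
  have h2 := (h.asym_weaklyClosed hasym).2 (y * g)
    (by rw [conj_mul]; exact (Subgroup.map_mono (hg.trans hT)).trans hTS.le)
  rw [conj_mul] at h2
  conv_rhs at h2 => rw [← h1]
  exact Subgroup.map_injective (MulAut.conj y).injective h2

/-- If `Y_M` is asymmetric, every overgroup of `O_p(M)` has a Sylow subgroup in `N_G(O_p(M))`. -/
theorem asym_exists_sylow_le (h : Std p S Q M)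
    (hasym : ¬ IsSymmetricIn (largestPReducedOf p M)) {L : Subgroup G}
    (hOL : pCoreOf p M ≤ L) :
    ∃ T : Sylow p L, pCoreOf p M ≤ (T : Subgroup L).map L.subtype ∧
      (T : Subgroup L).map L.subtype ≤ normalizer (pCoreOf p M : Set G) := by
  obtain ⟨T, hT⟩ := exists_sylow_subgroup_le hOL (isPGroup_pCoreOf M)
  exact ⟨T, hT, h.asym_le_normalizer_O hasym hT (T.isPGroup'.map _)⟩

end Std

end Cfsg.Agent.LargeSub
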