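import Mathlib

/-!
Subgroups isomorphic to `A₄` in `GL₂(ℤ/2ᵏ)`.
-/

set_option autoImplicit false

namespace Cfsg.Agent.LargeSub.GLTwo

open Matrix

abbrev M2 (R : Type*) := Matrix (Fin 2) (Fin 2) R

theorem f2_of_x : ∀ x : M2 (ZMod 2), x * x * x = 1 → x ≠ 1 →
    x 1 0 = 1 ∧ (x - 1).det ≠ 0 := by decide +kernel

theorem f2_of_a : ∀ x a : M2 (ZMod 2), x * x * x = 1 → x ≠ 1 → a * a = 1 →
    a * (x * a * (x * x)) = x * x * a * x → a = 1 := by decide +kernel

theorem f2_idem : ∀ x m : M2 (ZMod 2), x * x * x = 1 → x ≠ 1 →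
    m + x * m * (x * x) + x * x * m * x = 0 → m * m = m → m = 0 := by decide +kernel

theorem f2_orbit : ∀ m n : M2 (ZMod 2), m ≠ 0 → n ≠ 0 →
    m + !![0, 1; 1, 1] * m * (!![0, 1; 1, 1] * !![0, 1; 1, 1]) +
      !![0, 1; 1, 1] * !![0, 1; 1, 1] * m * !![0, 1; 1, 1] = 0 →
    n + !![0, 1; 1, 1] * n * (!![0, 1; 1, 1] * !![0, 1; 1, 1]) +
      !![0, 1; 1, 1] * !![0, 1; 1, 1] * n * !![0, 1; 1, 1] = 0 →
    ∃ i : Fin 3, n = !![0, 1; 1, 1] ^ (i : ℕ) * m * (!![0, 1; 1, 1] * !![0, 1; 1, 1]) ^ (i : ℕ) := by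
  decide +kernel

variable (k : ℕ)

/-- Reduction modulo two. -/
noncomputable def red (hk : k ≠ 0) : ZMod (2 ^ k) →+* ZMod 2 :=
  ZMod.castHom (dvd_pow_self 2 hk) (ZMod 2)

variable {k} {hk : k ≠ 0}

theorem red_natCast (n : ℕ) : red k hk (n : ZMod (2 ^ k)) = (n : ZMod 2) := map_natCast _ n

theorem red_eq_zero_iff (r : ZMod (2 ^ k)) : red k hk r = 0 ↔ ∃ s, r = 2 * s := by
  haveI : NeZero (2 ^ k) := ⟨(pow_pos two_pos k).ne'⟩
  constructor
  · intro h
    rw [← ZMod.natCast_zmod_val r, red_natCast, ZMod.natCast_eq_zero_iff] at h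
    obtain ⟨s, hs⟩ := h
    exact ⟨(s : ZMod (2 ^ k)), by rw [← ZMod.natCast_zmod_val r, hs]; push_cast; ring⟩
  · rintro ⟨s, rfl⟩
    rw [map_mul, map_ofNat, show (2 : ZMod 2) = 0 from by decide, zero_mul]

theorem red_eq_zero_of_mul {r : ZMod (2 ^ k)} {i : ℕ} (hi : i < k) (h : (2 : ZMod (2 ^ k)) ^ i * r = 0) :
    red k hk r = 0 := by
  haveI : NeZero (2 ^ k) := ⟨(pow_pos two_pos k).ne'⟩
  rw [← ZMod.natCast_zmod_val r] at h ⊢
  rw [show ((2 : ZMod (2 ^ k)) ^ i * (r.val : ZMod (2 ^ k))) = ((2 ^ i * r.val : ℕ) : ZMod (2 ^ k)) by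
    push_cast; ring, ZMod.natCast_eq_zero_iff] at h
  rw [red_natCast, ZMod.natCast_eq_zero_iff]
  have h2 : 2 ^ (i + 1) ∣ 2 ^ i * r.val := (pow_dvd_pow 2 hi).trans h
  rw [pow_succ] at h2
  exact Nat.dvd_of_mul_dvd_mul_left (pow_pos two_pos i) h2

theorem isUnit_of_red {r : ZMod (2 ^ k)} (h : red k hk r ≠ 0) : IsUnit r := by
  haveI : NeZero (2 ^ k) := ⟨(pow_pos two_pos k).ne'⟩
  rw [← ZMod.natCast_zmod_val r] at h ⊢
  rw [red_natCast, Ne, ZMod.natCast_eq_zero_iff] at h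
  exact (ZMod.isUnit_iff_coprime _ _).2
    (Nat.Coprime.pow_right k (Nat.Prime.coprime_iff_not_dvd Nat.prime_two |>.2 h).symm)

/-- Reduction of matrices. -/
noncomputable def redM (k : ℕ) (hk : k ≠ 0) : M2 (ZMod (2 ^ k)) →+* M2 (ZMod 2) :=
  (red k hk).mapMatrix

theorem redM_smul (r : ZMod (2 ^ k)) (m : M2 (ZMod (2 ^ k))) :
    redM k hk (r • m) = red k hk r • redM k hk m := by
  ext i j; simp [redM, RingHom.mapMatrix_apply]

theorem exists_two_smul {m : M2 (ZMod (2 ^ k))} (h : redM k hk m = 0) :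
    ∃ n, m = (2 : ZMod (2 ^ k)) • n := by
  have h' : ∀ i j, ∃ s, m i j = 2 * s := fun i j =>
    (red_eq_zero_iff (hk := hk) _).1 (congrFun (congrFun h i) j)
  choose s hs using h'
  exact ⟨s, Matrix.ext fun i j => by simp [hs i j]; rfl⟩

theorem redM_eq_zero_of_smul {m : M2 (ZMod (2 ^ k))} {i : ℕ} (hi : i < k)
    (h : (2 : ZMod (2 ^ k)) ^ i • m = 0) : redM k hk m = 0 :=
  Matrix.ext fun a b => red_eq_zero_of_mul (hk := hk) hi (congrFun (congrFun h a) b)

theorem smul_eq_zero_top (hk : k ≠ 0) {m : M2 (ZMod (2 ^ k))} (h : redM k hk m = 0) :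
    (2 : ZMod (2 ^ k)) ^ (k - 1) • m = 0 := by
  obtain ⟨n, rfl⟩ := exists_two_smul h
  rw [smul_smul, ← pow_succ, Nat.sub_add_cancel (Nat.one_le_iff_ne_zero.2 hk)]
  have h2 : (2 : ZMod (2 ^ k)) ^ k = 0 := by
    have := ZMod.natCast_self (2 ^ k)
    push_cast at this
    exact this
  rw [h2, zero_smul]

theorem one_add_smul_eq (hk : k ≠ 0) {m n : M2 (ZMod (2 ^ k))} (h : redM k hk m = redM k hk n) :
    1 + (2 : ZMod (2 ^ k)) ^ (k - 1) • m = 1 + (2 : ZMod (2 ^ k)) ^ (k - 1) • n := by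
  rw [add_right_inj, ← sub_eq_zero, ← smul_sub]
  exact smul_eq_zero_top hk (by rw [map_sub, h, sub_self])

theorem succ_level {a : M2 (ZMod (2 ^ k))} {j : ℕ} {m : M2 (ZMod (2 ^ k))} (hj : 1 ≤ j)
    (ha : a = 1 + (2 : ZMod (2 ^ k)) ^ j • m) (h : redM k hk m = 0) :
    ∃ n, a = 1 + (2 : ZMod (2 ^ k)) ^ (j + 1) • n := by
  obtain ⟨n, rfl⟩ := exists_two_smul h
  exact ⟨n, by rw [ha, smul_smul, ← pow_succ]⟩

/-- An element of order dividing three congruent to one is one. -/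
theorem eq_one_of_cube {x : M2 (ZMod (2 ^ k))} (h1 : redM k hk x = 1) (h3 : x * x * x = 1) :
    x = 1 := by
  suffices ∀ j, 1 ≤ j → j ≤ k → ∃ m, x = 1 + (2 : ZMod (2 ^ k)) ^ j • m by
    obtain ⟨m, rfl⟩ := this k (Nat.one_le_iff_ne_zero.2 hk) le_rfl
    have h2 : (2 : ZMod (2 ^ k)) ^ k = 0 := by
      have := ZMod.natCast_self (2 ^ k)
      push_cast at this
      exact this
    rw [h2, zero_smul, add_zero]
  intro j hj
  induction j, hj using Nat.le_induction with
  | base =>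
    intro _
    obtain ⟨n, hn⟩ := exists_two_smul (hk := hk) (m := x - 1) (by rw [map_sub, h1, map_one, sub_self])
    exact ⟨n, by rw [pow_one, ← hn]; abel⟩
  | succ j hj ih =>
    intro hjk
    obtain ⟨m, hm⟩ := ih (by omega)
    refine succ_level (hk := hk) hj hm ?_
    have h : (2 : ZMod (2 ^ k)) ^ j • ((3 : ZMod (2 ^ k)) • m +
        ((3 : ZMod (2 ^ k)) * 2 ^ j) • (m * m) + ((2 : ZMod (2 ^ k)) ^ j * 2 ^ j) • (m * m * m)) = 0 := by
      rw [hm] at h3
      simp only [add_mul, mul_add, one_mul, mul_one, smul_mul_assoc, mul_smul_comm, smul_smul] at h3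
      rw [← sub_eq_zero] at h3
      refine Eq.trans ?_ h3
      module
    have h' := redM_eq_zero_of_smul (hk := hk) (by omega : j < k) h
    simp only [map_add, redM_smul, map_mul, map_pow, map_ofNat] at h'
    rw [show (2 : ZMod 2) = 0 from by decide, show (3 : ZMod 2) = 1 from by decide,
      zero_pow (by omega : j ≠ 0), one_mul, zero_mul, one_smul, zero_smul, zero_smul, add_zero,
      add_zero] at h'
    exact h'

/-- The Klein four part lies in the last congruence layer. -/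
theorem last_layer (hk2 : 2 ≤ k) {x a : M2 (ZMod (2 ^ k))} (hx : x * x * x = 1)
    (hx1 : redM k hk x ≠ 1) (ha1 : redM k hk a = 1) (ha : a * a = 1)
    (hab : a * (x * a * (x * x)) = x * x * a * x) :
    ∃ m, a = 1 + (2 : ZMod (2 ^ k)) ^ (k - 1) • m ∧
      redM k hk m + redM k hk x * redM k hk m * (redM k hk x * redM k hk x) +
        redM k hk x * redM k hk x * redM k hk m * redM k hk x = 0 := by
  have hX : redM k hk x * redM k hk x * redM k hk x = 1 := by rw [← map_mul, ← map_mul, hx, map_one]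
  -- the linear relation
  have hlin : ∀ j m, 1 ≤ j → j < k → a = 1 + (2 : ZMod (2 ^ k)) ^ j • m →
      redM k hk m + redM k hk x * redM k hk m * (redM k hk x * redM k hk x) +
        redM k hk x * redM k hk x * redM k hk m * redM k hk x = 0 := by
    intro j m hj hjk hm
    have e1 : x * a * (x * x) = 1 + (2 : ZMod (2 ^ k)) ^ j • (x * m * (x * x)) := by
      rw [hm, mul_add, add_mul, mul_one, ← mul_assoc, hx, mul_smul_comm, smul_mul_assoc]
    have e2 : x * x * a * x = 1 + (2 : ZMod (2 ^ k)) ^ j • (x * x * m * x) := by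
      rw [hm, mul_add, add_mul, mul_one, hx, mul_smul_comm, smul_mul_assoc]
    have h : (2 : ZMod (2 ^ k)) ^ j • (m + x * m * (x * x) - x * x * m * x +
        (2 : ZMod (2 ^ k)) ^ j • (m * (x * m * (x * x)))) = 0 := by
      rw [e1, e2, hm] at hab
      generalize x * m * (x * x) = m1 at hab ⊢
      generalize x * x * m * x = m2 at hab ⊢
      simp only [add_mul, mul_add, one_mul, mul_one, smul_mul_assoc, mul_smul_comm, smul_smul] at hab
      rw [← sub_eq_zero] at hab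
      refine Eq.trans ?_ hab
      module
    have h' := redM_eq_zero_of_smul (hk := hk) hjk h
    simp only [map_add, map_sub, redM_smul, map_mul, map_pow, map_ofNat] at h'
    rw [show (2 : ZMod 2) = 0 from by decide, zero_pow (by omega : j ≠ 0), zero_smul, add_zero] at h'
    have hneg : ∀ y z : M2 (ZMod 2), y - z = y + z := by decide +kernel
    rw [hneg] at h'
    exact h'
  suffices ∀ j, 1 ≤ j → j < k → ∃ m, a = 1 + (2 : ZMod (2 ^ k)) ^ j • m by
    obtain ⟨m, hm⟩ := this (k - 1) (by omega) (by omega)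
    exact ⟨m, hm, hlin _ m (by omega) (by omega) hm⟩
  intro j hj
  induction j, hj using Nat.le_induction with
  | base =>
    intro _
    obtain ⟨n, hn⟩ := exists_two_smul (hk := hk) (m := a - 1) (by rw [map_sub, ha1, map_one, sub_self])
    exact ⟨n, by rw [pow_one, ← hn]; abel⟩
  | succ j hj ih =>
    intro hjk
    obtain ⟨m, hm⟩ := ih (by omega)
    refine succ_level (hk := hk) hj hm ?_
    have h : (2 : ZMod (2 ^ k)) ^ (j + 1) • (m + (2 : ZMod (2 ^ k)) ^ (j - 1) • (m * m)) = 0 := by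
      have e : (2 : ZMod (2 ^ k)) ^ (j + 1) * 2 ^ (j - 1) = 2 ^ j * 2 ^ j := by
        rw [← pow_add, ← pow_add]; congr 1; omega
      rw [hm] at ha
      simp only [add_mul, mul_add, one_mul, mul_one, smul_mul_assoc, mul_smul_comm, smul_smul] at ha
      rw [← sub_eq_zero] at ha
      rw [smul_add, smul_smul, e, pow_succ]
      refine Eq.trans ?_ ha
      module
    have h' := redM_eq_zero_of_smul (hk := hk) hjk h
    simp only [map_add, redM_smul, map_mul, map_pow, map_ofNat] at h'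
    rw [show (2 : ZMod 2) = 0 from by decide] at h'
    rcases Nat.lt_or_ge 1 j with hj1 | hj1
    · rwa [zero_pow (by omega : j - 1 ≠ 0), zero_smul, add_zero] at h'
    · rw [show j - 1 = 0 by omega, pow_zero, one_smul] at h'
      have hidem : ∀ y : M2 (ZMod 2), y + y * y = 0 → y * y = y := by decide +kernel
      exact f2_idem _ _ hX hx1 (hlin j m hj (by omega) hm) (hidem _ h')

theorem order_three_conj {x : (M2 (ZMod (2 ^ k)))ˣ} (hx : x * x * x = 1)
    (hx1 : redM k hk x.val ≠ 1) :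
    ∃ g : (M2 (ZMod (2 ^ k)))ˣ, ((g⁻¹ * x * g : (M2 (ZMod (2 ^ k)))ˣ) : M2 (ZMod (2 ^ k))) = !![0, -1; 1, -1] := by
  have hx' : x.val * x.val * x.val = 1 := by rw [← Units.val_mul, ← Units.val_mul, hx, Units.val_one]
  obtain ⟨h10, hdet⟩ := f2_of_x _ (by rw [← map_mul, ← map_mul, hx', map_one]) hx1
  have hu : IsUnit (x.val - 1) := by
    rw [Matrix.isUnit_iff_isUnit_det]
    refine isUnit_of_red (hk := hk) ?_
    rw [RingHom.map_det]
    simpa [redM, map_sub] using hdet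
  have hq : x.val * x.val + x.val + 1 = 0 := by
    refine hu.mul_right_eq_zero.1 ?_
    rw [sub_mul, mul_add, mul_add, one_mul, mul_one, ← mul_assoc, hx']
    abel
  have hg : IsUnit (!![1, x.val 0 0; 0, x.val 1 0] : M2 (ZMod (2 ^ k))) := by
    rw [Matrix.isUnit_iff_isUnit_det, Matrix.det_fin_two_of, one_mul, mul_zero, sub_zero]
    refine isUnit_of_red (hk := hk) ?_
    rw [show red k hk (x.val 1 0) = redM k hk x.val 1 0 from rfl, h10]
    exact one_ne_zero
  obtain ⟨g, hg⟩ := hg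
  refine ⟨g, ?_⟩
  rw [Units.val_mul, Units.val_mul]
  apply (Units.mul_right_inj g).1
  rw [← mul_assoc, ← mul_assoc, Units.mul_inv, one_mul, hg]
  have e00 := congrFun (congrFun hq 0) 0
  have e10 := congrFun (congrFun hq 1) 0
  simp [Matrix.mul_apply, Fin.sum_univ_two] at e00 e10
  ext i j
  fin_cases i <;> fin_cases j <;> simp [Matrix.mul_apply, Fin.sum_univ_two]
  · linear_combination e00
  · linear_combination e10

end Cfsg.Agent.LargeSub.GLTwo
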