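import Cfsg.Agent.LargeSub.Basic
import Cfsg.Agent.LargeSub.FrakH
import Cfsg.Agent.LAE65.Subnormal
import Cfsg.Agent.Lib.Transfer.Residual
import Cfsg.Agent.Lib.Transfer.Focal
import Cfsg.Prelude.Def_LocalEven

/-!
Structure of `p`-minimal groups.
-/

set_option autoImplicit false
set_option linter.unusedSectionVars false

open Subgroup Cfsg

namespace Cfsg.Agent.LargeSub

universe u

variable {P : Type u} [Group P] [Finite P] {p : ℕ} [hp : Fact p.Prime]

/-- `M` is the only maximal subgroup containing the Sylow subgroup `S`, which is not normal. -/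
structure PMin (p : ℕ) (S : Sylow p P) (M : Subgroup P) : Prop where
  notNormal : ¬ (S : Subgroup P).Normal
  coatom : IsCoatom M
  le : (S : Subgroup P) ≤ M
  unique : ∀ M' : Subgroup P, IsCoatom M' → (S : Subgroup P) ≤ M' → M' = M

theorem PMin.of_isPMinimal (hP : IsPMinimal p P) (S : Sylow p P) (M : Subgroup P) (hM : IsCoatom M)
    (hSM : (S : Subgroup P) ≤ M) : PMin p S M := by
  obtain ⟨hn, M₀, hM₀, huniq⟩ := hP S
  exact ⟨hn, hM, hSM, fun M' h1 h2 => (huniq M' ⟨h1, h2⟩).trans (huniq M ⟨hM, hSM⟩).symm⟩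

namespace PMin

variable {S : Sylow p P} {M : Subgroup P}

theorem le_of_ne_top (h : PMin p S M) {H : Subgroup P} (hS : (S : Subgroup P) ≤ H) (hH : H ≠ ⊤) :
    H ≤ M := by
  obtain ⟨M', hM', hle⟩ := (eq_top_or_exists_le_coatom H).resolve_left hH
  exact hle.trans (h.unique M' hM' (hS.trans hle)).le

theorem sup_eq_top (h : PMin p S M) {N : Subgroup P} (hN : ¬ N ≤ M) :
    (S : Subgroup P) ⊔ N = ⊤ := by
  by_contra hne
  exact hN (le_sup_right.trans (h.le_of_ne_top le_sup_left hne))

theorem normal_inf_sylow_le (h : PMin p S M) {N : Subgroup P} [hN : N.Normal] (hNM : N ≤ M) :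
    N ⊓ (S : Subgroup P) ≤ pCore p P := by
  obtain ⟨T, hT⟩ := Transfer.exists_sylow_subgroupOf_normal S N
  have hfr := Sylow.normalizer_sup_eq_top T
  rw [hT, Subgroup.subgroupOf_map_subtype] at hfr
  have htop : normalizer (((S : Subgroup P) ⊓ N : Subgroup P) : Set P) = ⊤ := by
    by_contra hne
    have hSn : (S : Subgroup P) ≤ normalizer (((S : Subgroup P) ⊓ N : Subgroup P) : Set P) :=
      le_normalizer_inf le_normalizer (by rw [normalizer_eq_top (H := N)]; exact le_top)
    exact h.coatom.1 (eq_top_iff.2 (hfr ▸ sup_le (h.le_of_ne_top hSn hne) hNM))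
  rw [inf_comm]
  exact Thompson.le_pCore (normalizer_eq_top_iff.1 htop) (S.2.to_le inf_le_left) |>.trans le_rfl

theorem invariant_subnormal_inf_sylow_le (h : PMin p S M) :
    ∀ (L X : Subgroup P), X ≤ L → X.IsSubnormal → (S : Subgroup P) ≤ normalizer (X : Set P) →
      (S : Subgroup P) ≤ normalizer (L : Set P) → ¬ L ≤ M → X ≤ M →
      X ⊓ (S : Subgroup P) ≤ pCore p P := by
  intro L
  induction L using WellFoundedLT.induction with
  | ind L ih =>
    intro X hXL hX hSX hSL hLM hXM
    have hne : X.subgroupOf L ≠ ⊤ := fun he => hLM (((subgroupOf_eq_top).1 he).trans hXM)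
    obtain ⟨K', hK'n, hle, hlt⟩ := (hX.subgroupOf (K := L)).exists_normal_and_le_and_lt_top_of_ne hne
    set K : Subgroup P := ⨆ l : L, X.map (MulAut.conj (l : P)).toMonoidHom with hK
    have hLK : L ≤ normalizer (K : Set P) := le_normalizer_iSup_conj L X
    have hKL : K < L := by
      refine lt_of_le_of_lt (b := K'.map L.subtype) ?_
        (lt_of_le_of_ne (map_subtype_le _) fun he => hlt.ne (by
          apply map_injective L.subtype_injective
          rw [he, ← MonoidHom.range_eq_map, range_subtype]))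
      rw [hK, ← normalClosure_map_eq_iSup hXL]
      exact map_mono (normalClosure_le_normal hle)
    have hSK : (S : Subgroup P) ≤ normalizer (K : Set P) := by
      intro s hs
      apply mem_normalizer_of_conj_le
      rw [hK, Subgroup.map_iSup]
      refine iSup_le fun l => ?_
      have hmem : s * (l : P) * s⁻¹ ∈ L := (mem_normalizer_iff.1 (hSL hs) _).1 l.2
      refine le_trans (le_of_eq ?_)
        (le_iSup (fun l : L => X.map (MulAut.conj (l : P)).toMonoidHom) ⟨_, hmem⟩)
      show (X.map (MulAut.conj (l : P)).toMonoidHom).map (MulAut.conj s).toMonoidHom = _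
      conv_rhs => rw [← conj_eq_of_mem_normalizer (hSX hs)]
      rw [← LargeSub.conj_mul, ← LargeSub.conj_mul]
      congr 2
      rw [inv_mul_cancel_right]
    by_cases hKM : K ≤ M
    · haveI : K.Normal := normalizer_eq_top_iff.1
        (eq_top_iff.2 ((h.sup_eq_top hLM).ge.trans (sup_le hSK hLK)))
      exact (inf_le_inf_right _ (le_iSup_conj L X)).trans (h.normal_inf_sylow_le hKM)
    · exact ih K hKL X (le_iSup_conj L X) hX hSX hSK hKM hXM

theorem subnormal_inf_sylow_le (h : PMin p S M) {N : Subgroup P} (hN : N.IsSubnormal) (hNM : N ≤ M) :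
    N ⊓ (S : Subgroup P) ≤ pCore p P := by
  classical
  haveI := Fintype.ofFinite ↥(S : Subgroup P)
  set X : Subgroup P := ⨆ s : ↥(S : Subgroup P), N.map (MulAut.conj (s : P)).toMonoidHom with hXdef
  have hX : X.IsSubnormal := by
    rw [hXdef, ← Finset.sup_univ_eq_iSup]
    exact Finset.sup_induction Subgroup.IsSubnormal.bot (fun a ha b hb => LAE65.isSubnormal_sup ha hb)
      (fun s _ => hN.map (MulAut.conj (s : P)).surjective)
  have hXM : X ≤ M := iSup_le fun s =>
    (map_mono hNM).trans (conj_eq_of_mem (h.le s.2)).le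
  exact (inf_le_inf_right _ (le_iSup_conj _ N)).trans
    (h.invariant_subnormal_inf_sylow_le ⊤ X le_top hX (le_normalizer_iSup_conj _ N)
      (by rw [normalizer_eq_top (H := (⊤ : Subgroup P))]; exact le_top)
      (fun ht => h.coatom.1 (eq_top_iff.2 ht)) hXM)

theorem residual_le_or_le_core (h : PMin p S M) {N : Subgroup P} [N.Normal] :
    pResidual p P ≤ N ∨ N ≤ M.normalCore := by
  by_cases hNM : N ≤ M
  · exact Or.inr (normal_le_normalCore.2 hNM)
  · left
    refine Transfer.pResidual_le_of_isPGroup_quotient ?_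
    have hsurj : Function.Surjective ((QuotientGroup.mk' N).comp (S : Subgroup P).subtype) := by
      intro q
      induction q using QuotientGroup.induction_on with
      | _ g =>
        have hg : g ∈ (↑((S : Subgroup P) ⊔ N) : Set P) := by
          rw [h.sup_eq_top hNM]; trivial
        rw [Subgroup.mul_normal (S : Subgroup P) N] at hg
        obtain ⟨s, hs, n, hn, rfl⟩ := hg
        exact ⟨⟨s, hs⟩, (QuotientGroup.eq.2 (by simpa using hn))⟩
    exact S.2.of_surjective _ hsurj

theorem residual_not_le (h : PMin p S M) : ¬ pResidual p P ≤ M := fun hle =>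
  h.coatom.1 (eq_top_iff.2 ((Transfer.sylow_sup_pResidual_eq_top S).ge.trans (sup_le h.le hle)))

theorem primeFactors_card_le (h : PMin p S M)
    (hT : ∀ T : Sylow p ↥(pResidual p P), (T : Subgroup ↥(pResidual p P)).Normal)
    [hO : (pResidual p P).Normal] : (Nat.card P).primeFactors.card ≤ 2 := by
  classical
  set O := pResidual p P with hOdef
  obtain ⟨T₀, hT₀⟩ := Transfer.exists_sylow_subgroupOf_normal S O
  set T : Subgroup P := (S : Subgroup P) ⊓ O with hTdef
  haveI hTn : T.Normal := by
    rw [← normalizer_eq_top_iff, eq_top_iff, ← Transfer.sylow_sup_pResidual_eq_top S]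
    refine sup_le (le_normalizer_inf le_normalizer (by rw [normalizer_eq_top (H := O)]; exact le_top)) ?_
    haveI := hT T₀
    have h2 := le_normalizer_map_subtype (T₀ : Subgroup ↥O)
    rwa [hT₀, Subgroup.subgroupOf_map_subtype] at h2
  have hTO : T ≤ O := inf_le_right
  have hTi : ¬ p ∣ T.relIndex O := by
    rw [hTdef, inf_relIndex_right, Subgroup.relIndex, ← hT₀]
    exact T₀.not_dvd_index
  -- for every prime some `S`-invariant `T Q`
  have key : ∀ q : ℕ, q.Prime → ∃ Q : Subgroup P, Q ≤ O ∧ IsPGroup q Q ∧ ¬ q ∣ Q.relIndex O ∧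
      (S : Subgroup P) ≤ normalizer ((T ⊔ Q : Subgroup P) : Set P) := by
    intro q hq
    haveI := Fact.mk hq
    obtain ⟨R⟩ := (inferInstance : Nonempty (Sylow q ↥O))
    set Q : Subgroup P := (R : Subgroup ↥O).map O.subtype with hQdef
    have hfr : normalizer (Q : Set P) ⊔ O = ⊤ := Sylow.normalizer_sup_eq_top R
    set N := normalizer ((T ⊔ Q : Subgroup P) : Set P) with hNdef
    have hQN : normalizer (Q : Set P) ≤ N :=
      le_normalizer_sup (by rw [normalizer_eq_top (H := T)]; exact le_top) le_rfl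
    have hNO : N ⊔ O = ⊤ := eq_top_iff.2 (hfr ▸ sup_le_sup_right hQN O)
    have hidx : N.index = N.relIndex O := by
      have h1 := relIndex_mul_index (inf_le_left : N ⊓ O ≤ N)
      have h2 := relIndex_mul_index (inf_le_right : N ⊓ O ≤ O)
      have h3 : O.relIndex N = O.index := by
        rw [← relIndex_sup_right, hNO, relIndex_top_right]
      rw [inf_relIndex_left, h3] at h1
      rw [inf_relIndex_right, ← h1, mul_comm] at h2
      exact (Nat.eq_of_mul_eq_mul_left (Nat.pos_of_ne_zero index_ne_zero_of_finite) h2).symm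
    have hpN : ¬ p ∣ N.index := by
      rw [hidx]
      exact fun hd => hTi (hd.trans (relIndex_dvd_of_le_left O
        (le_sup_left.trans le_normalizer)))
    obtain ⟨R', hR'⟩ : ∃ R' : Sylow p P, (R' : Subgroup P) ≤ N := by
      obtain ⟨R₁⟩ := (inferInstance : Nonempty (Sylow p ↥N))
      have hi : ¬ p ∣ ((R₁ : Subgroup ↥N).map N.subtype).index := by
        rw [index_map_subtype]
        exact fun hd => (hp.out.dvd_mul.1 hd).elim R₁.not_dvd_index hpN
      exact ⟨(R₁.2.map N.subtype).toSylow hi, map_subtype_le _⟩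
    obtain ⟨g, rfl⟩ := MulAction.exists_smul_eq P S R'
    refine ⟨Q.map (MulAut.conj g⁻¹).toMonoidHom, ?_, (R.2.map _).map _, ?_, ?_⟩
    · exact (map_mono (map_subtype_le _)).trans (Subgroup.Normal.map_conj_eq (H := O) g⁻¹).le
    · have hi : ¬ q ∣ Q.relIndex O := by
        rw [hQdef, Subgroup.relIndex, subgroupOf, comap_map_eq_self_of_injective O.subtype_injective]
        exact R.not_dvd_index
      have eO : O.map (MulAut.conj g⁻¹).toMonoidHom = O := Subgroup.Normal.map_conj_eq (H := O) g⁻¹
      have e : (Q.map (MulAut.conj g⁻¹).toMonoidHom).relIndex O = Q.relIndex O := by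
        conv_lhs => rw [← eO]
        exact relIndex_map_map_of_injective Q O (MulAut.conj g⁻¹).injective
      rwa [e]
    · have h4 : (S : Subgroup P) ≤ N.map (MulAut.conj g⁻¹).toMonoidHom := by
        intro s hs
        refine ⟨g * s * g⁻¹, hR' ⟨s, hs, rfl⟩, ?_⟩
        simp [mul_assoc]
      have eT : T.map (MulAut.conj g⁻¹).toMonoidHom = T := Subgroup.Normal.map_conj_eq (H := T) g⁻¹
      rwa [hNdef, conj_normalizer, Subgroup.map_sup, eT] at h4
  obtain ⟨q, hq, Q, hQO, hQq, -, hSQ, hQM⟩ : ∃ q, q.Prime ∧ ∃ Q : Subgroup P, Q ≤ O ∧ IsPGroup q Q ∧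
      ¬ q ∣ Q.relIndex O ∧ (S : Subgroup P) ≤ normalizer ((T ⊔ Q : Subgroup P) : Set P) ∧
      ¬ T ⊔ Q ≤ M := by
    by_contra hall
    push Not at hall
    apply h.residual_not_le
    have hD : M.relIndex O = 1 := by
      by_contra hne
      obtain ⟨q, hq, hqd⟩ := Nat.exists_prime_and_dvd hne
      obtain ⟨Q, hQO, hQq, hQi, hSQ⟩ := key q hq
      have hle := hall q hq Q hQO hQq hQi hSQ
      exact hQi (hqd.trans (relIndex_dvd_of_le_left O (le_sup_right.trans hle)))
    exact relIndex_eq_one.1 hD
  have htop := h.sup_eq_top hQM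
  have hcard : Nat.card P ∣ Nat.card ↥(S : Subgroup P) * (Nat.card T * Nat.card Q) := by
    have h1 : ∀ A B : Subgroup P, A ≤ normalizer (B : Set P) →
        Nat.card ↥(A ⊔ B) ∣ Nat.card A * Nat.card B := by
      intro A B hAB
      haveI : (B.subgroupOf (A ⊔ B)).Normal :=
        (normal_subgroupOf_iff_le_normalizer le_sup_right).2 (sup_le hAB le_normalizer)
      haveI : (B.subgroupOf A).Normal := Subgroup.normal_subgroupOf_of_le_normalizer hAB
      have e1 := card_mul_index (B.subgroupOf (A ⊔ B))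
      have e2 : (B.subgroupOf (A ⊔ B)).index = (B.subgroupOf A).index :=
        (Nat.card_congr (QuotientGroup.quotientInfEquivProdNormalizerQuotient A B hAB).toEquiv).symm
      rw [Nat.card_congr (subgroupOfEquivOfLe (le_sup_right : B ≤ A ⊔ B)).toEquiv, e2, mul_comm] at e1
      exact ⟨Nat.card ↥(B.subgroupOf A), by
        rw [← e1, ← Subgroup.card_mul_index (B.subgroupOf A)]; ring⟩
    have h2 := h1 (S : Subgroup P) (T ⊔ Q) hSQ
    rw [htop, Subgroup.card_top] at h2
    refine h2.trans (mul_dvd_mul_left _ ?_)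
    rw [mul_comm, sup_comm]
    exact h1 Q T (by rw [normalizer_eq_top (H := T)]; exact le_top)
  have hsub : (Nat.card P).primeFactors ⊆ {p, q} := by
    intro r hr
    obtain ⟨hr1, hr2, -⟩ := Nat.mem_primeFactors.1 hr
    have hpow : ∀ (s : ℕ) (A : Subgroup P), s.Prime → IsPGroup s A → r ∣ Nat.card A → r = s := by
      intro s A hs hA hd
      haveI := Fact.mk hs
      obtain ⟨n, hn⟩ := IsPGroup.iff_card.1 hA
      rw [hn] at hd
      exact (Nat.prime_dvd_prime_iff_eq hr1 hs).1 (hr1.dvd_of_dvd_pow hd)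
    simp only [Finset.mem_insert, Finset.mem_singleton]
    rcases hr1.dvd_mul.1 (hr2.trans hcard) with h1 | h1
    · exact Or.inl (hpow p _ hp.out S.2 h1)
    · rcases hr1.dvd_mul.1 h1 with h1 | h1
      · exact Or.inl (hpow p _ hp.out (S.2.to_le inf_le_left) h1)
      · exact Or.inr (hpow q _ hq hQq h1)
  exact (Finset.card_le_card hsub).trans Finset.card_le_two

end PMin

end Cfsg.Agent.LargeSub
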