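import Cfsg.Agent.LargeSub.PMinimal
import Cfsg.Agent.Lib.Components.GenFitting

/-!
Components of `p`-minimal groups with trivial `O_p`.
-/

set_option autoImplicit false
set_option linter.unusedSectionVars false
set_option linter.style.haveILetI false

open Subgroup Cfsg

namespace Cfsg.Agent.LargeSub

universe u

variable {P : Type u} [Group P] [Finite P] {p : ℕ} [hp : Fact p.Prime]

theorem isPMinimal_of_pMin {S : Sylow p P} {M : Subgroup P} (h : PMin p S M) : IsPMinimal p P := by
  intro R
  obtain ⟨g, rfl⟩ := MulAction.exists_smul_eq P S R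
  refine ⟨fun hn => h.notNormal ?_, M.map (MulAut.conj g).toMonoidHom,
    ⟨((MulAut.conj g).mapSubgroup.isCoatom_iff M).2 h.coatom, map_mono h.le⟩, ?_⟩
  · haveI := hn
    have := Sylow.unique_of_normal (g • S) hn
    rwa [Subsingleton.elim S (g • S)]
  · rintro M' ⟨hM', hle⟩
    have e : (M'.map (MulAut.conj g⁻¹).toMonoidHom).map (MulAut.conj g).toMonoidHom = M' := by
      rw [← LargeSub.conj_mul, mul_inv_cancel, LargeSub.conj_one]
    rw [← e, h.unique (M'.map (MulAut.conj g⁻¹).toMonoidHom)
      (((MulAut.conj g⁻¹).mapSubgroup.isCoatom_iff M').2 hM') ?_]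
    intro s hs
    exact ⟨g * s * g⁻¹, hle ⟨s, hs, rfl⟩, by simp [mul_assoc]⟩

namespace PMin

variable {S : Sylow p P} {M : Subgroup P}

theorem component_le_residual (K : Subgroup P) (hK : IsComponent K) :
    K ≤ pResidual p P := by
  rcases Components.component_map_or_eq_bot (QuotientGroup.mk' (pResidual p P))
    (QuotientGroup.mk'_surjective _) hK with h | h
  · rwa [Subgroup.map_eq_bot_iff, QuotientGroup.ker_mk'] at h
  · exfalso
    haveI : Group.IsNilpotent ↥(⊤ : Subgroup (P ⧸ pResidual p P)) :=
      (Thompson.isPGroup_quotient_pResidual.to_subgroup ⊤).isNilpotent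
    exact Components.component_not_le_isSolvable h (H := ⊤) inferInstance le_top

theorem layer_le_residual (p : ℕ) [Fact p.Prime] : layer P ≤ pResidual p P :=
  Components.layer_le_iff.2 component_le_residual

/-- A proper subgroup `V` of a component `K`, containing `K ∩ S` and invariant under `N_S(K)`,
lies in `M`. -/
theorem component_subgroup_le (h : PMin p S M) {K V : Subgroup P} (hK : IsComponent K)
    (hlayer : layer P = ⨆ s : ↥(S : Subgroup P), K.map (MulAut.conj (s : P)).toMonoidHom)
    (hVK : V ≤ K) (hne : V ≠ K) (hSV : K ⊓ (S : Subgroup P) ≤ V)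
    (hinv : (S : Subgroup P) ⊓ normalizer (K : Set P) ≤ normalizer (V : Set P)) : V ≤ M := by
  classical
  haveI := Fintype.ofFinite ↥(S : Subgroup P)
  by_contra hVM
  set X : Subgroup P := ⨆ s : ↥(S : Subgroup P), V.map (MulAut.conj (s : P)).toMonoidHom with hX
  have hSX : (S : Subgroup P) ≤ normalizer (X : Set P) := le_normalizer_iSup_conj _ V
  have htop : (S : Subgroup P) ⊔ X = ⊤ := h.sup_eq_top fun hle => hVM ((le_iSup_conj _ V).trans hle)
  have hXE : X ≤ layer P := by
    rw [hlayer]; exact iSup_mono fun s => map_mono hVK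
  have hES : layer P ⊓ (S : Subgroup P) ≤ X := by
    have key : (layer P).IsSubnormal ∧ layer P ⊓ (S : Subgroup P) ≤ X := by
      rw [hlayer, ← Finset.sup_univ_eq_iSup]
      refine Finset.sup_induction (p := fun A : Subgroup P => A.IsSubnormal ∧ A ⊓ (S : Subgroup P) ≤ X)
        ⟨Subgroup.IsSubnormal.bot, by simp⟩ ?_ ?_
      · intro a ha b hb
        exact ⟨LAE65.isSubnormal_sup ha.1 hb.1,
          (LAE65.sylow_inf_sup S ha.1 hb.1).le.trans (sup_le ha.2 hb.2)⟩
      · intro s _
        refine ⟨hK.1.map (MulAut.conj (s : P)).surjective, ?_⟩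
        have e := LargeSub.conj_eq_of_mem (H := (S : Subgroup P)) s.2
        calc K.map (MulAut.conj (s : P)).toMonoidHom ⊓ (S : Subgroup P)
            = (K ⊓ (S : Subgroup P)).map (MulAut.conj (s : P)).toMonoidHom := by
              rw [LargeSub.conj_inf, e]
          _ ≤ V.map (MulAut.conj (s : P)).toMonoidHom := map_mono hSV
          _ ≤ X := le_iSup (fun s : ↥(S : Subgroup P) => V.map (MulAut.conj (s : P)).toMonoidHom) s
    exact key.2
  have hEX : layer P ≤ X := by
    intro e he
    obtain ⟨s, hs, x, hx, rfl⟩ := exists_mul_of_mem_sup hSX (htop.ge (mem_top e))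
    refine mul_mem (hES (mem_inf.2 ⟨?_, hs⟩)) hx
    simpa using mul_mem he (inv_mem (hXE hx))
  have hXV : X ≤ V ⊔ centralizer (K : Set P) := by
    refine iSup_le fun s => ?_
    by_cases hsK : K.map (MulAut.conj (s : P)).toMonoidHom = K
    · rw [LargeSub.conj_eq_of_mem_normalizer
        (hinv ⟨s.2, LargeSub.mem_normalizer_of_conj_eq hsK⟩)]
      exact le_sup_left
    · exact (map_mono hVK).trans ((Components.component_le_centralizer
        (Components.component_map_conj (s : P) hK) hK hsK).trans le_sup_right)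
  haveI : Group.IsPerfect ↥K := hK.2.1
  refine hne (le_antisymm hVK ?_)
  rw [← subgroupOf_eq_top]
  refine Components.eq_top_of_sup_center_eq_top (eq_top_iff.2 fun k _ => ?_)
  have hk : (k : P) ∈ V ⊔ centralizer (K : Set P) :=
    hXV (hEX (Components.component_le_layer hK k.2))
  obtain ⟨v, hv, c, hc, hvc⟩ := exists_mul_of_mem_sup
    ((hVK.trans le_normalizer).trans (normalizer_le_normalizer_centralizer _)) hk
  have hcK : c ∈ K := by
    have e : c = v⁻¹ * (k : P) := by rw [hvc, inv_mul_cancel_left]
    rw [e]; exact mul_mem (inv_mem (hVK hv)) k.2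
  have hk' : k = ⟨v, hVK hv⟩ * ⟨c, hcK⟩ := Subtype.ext hvc
  rw [hk']
  exact mul_mem (mem_sup_left (mem_subgroupOf.2 hv)) (mem_sup_right (mem_center_iff.2 fun y =>
    Subtype.ext (mem_centralizer_iff.1 hc y y.2)))

/-- A normal subgroup inside `M` is nilpotent. -/
theorem normal_le_isNilpotent (h : PMin p S M) (hOp : pCore p P = ⊥) (N₀ : Subgroup P) [N₀.Normal]
    (hle : N₀ ≤ M) : Group.IsNilpotent ↥N₀ := by
  have hES : N₀ ⊓ (S : Subgroup P) = ⊥ := le_bot_iff.1 (hOp ▸ h.normal_inf_sylow_le hle)
  obtain ⟨T₀, hT₀⟩ := Transfer.exists_sylow_subgroupOf_normal S (N₀)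
  have hbot : (T₀ : Subgroup ↥N₀) = ⊥ := by
    apply map_injective N₀.subtype_injective
    rw [hT₀, subgroupOf_map_subtype, inf_comm, hES, Subgroup.map_bot]
  have hpE : ¬ p ∣ Nat.card ↥N₀ := by
    have := T₀.not_dvd_index
    rwa [hbot, index_bot] at this
  have hsyl : ∀ (q : ℕ) (_ : Fact q.Prime) (R : Sylow q ↥N₀), (R : Subgroup ↥N₀).Normal := by
    intro q hq R
    set Q := (R : Subgroup ↥N₀).map N₀.subtype with hQ
    have hfr : normalizer (Q : Set P) ⊔ N₀ = ⊤ := Sylow.normalizer_sup_eq_top R
    set N := normalizer (Q : Set P) with hN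
    have hidx : N.index ∣ Nat.card ↥N₀ := by
      have h1 := relIndex_mul_index (inf_le_left : N ⊓ N₀ ≤ N)
      have h2 := relIndex_mul_index (inf_le_right : N ⊓ N₀ ≤ N₀)
      have h3 : N₀.relIndex N = N₀.index := by
        rw [← relIndex_sup_right, hfr, relIndex_top_right]
      rw [inf_relIndex_left, h3] at h1
      rw [inf_relIndex_right, ← h1, mul_comm] at h2
      rw [← Nat.eq_of_mul_eq_mul_left (Nat.pos_of_ne_zero index_ne_zero_of_finite) h2]
      exact index_dvd_card _
    obtain ⟨R₁⟩ := (inferInstance : Nonempty (Sylow p ↥N))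
    have hi : ¬ p ∣ ((R₁ : Subgroup ↥N).map N.subtype).index := by
      rw [index_map_subtype]
      exact fun hd => (hp.out.dvd_mul.1 hd).elim R₁.not_dvd_index fun hd => hpE (hd.trans hidx)
    obtain ⟨g, hg⟩ := MulAction.exists_smul_eq P S ((R₁.2.map N.subtype).toSylow hi)
    have hSN : (S : Subgroup P) ≤ N.map (MulAut.conj g⁻¹).toMonoidHom := by
      intro s hs
      refine ⟨g * s * g⁻¹, ?_, by simp [mul_assoc]⟩
      have h4 : g * s * g⁻¹ ∈ ((g • S : Sylow p P) : Subgroup P) := ⟨s, hs, rfl⟩
      rw [hg] at h4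
      exact map_subtype_le _ h4
    have eE : N₀.map (MulAut.conj g⁻¹).toMonoidHom = N₀ :=
      Subgroup.Normal.map_conj_eq (H := N₀) g⁻¹
    have htop : N = ⊤ := by
      by_contra hne
      apply h.coatom.1
      rw [eq_top_iff]
      refine le_trans ?_ (sup_le (h.le_of_ne_top hSN ?_) hle)
      · rw [← Subgroup.map_top_of_surjective (MulAut.conj g⁻¹).toMonoidHom
          (MulAut.conj g⁻¹).surjective, ← hfr, Subgroup.map_sup, eE]
      · intro ht
        apply hne
        rw [← LargeSub.conj_one N, ← mul_inv_cancel g, LargeSub.conj_mul, ht,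
          Subgroup.map_top_of_surjective _ (MulAut.conj g).surjective]
    constructor
    intro x hx y
    have := (mem_normalizer_iff.1 (htop.ge (mem_top (y : P))) (x : P)).1 ⟨x, hx, rfl⟩
    obtain ⟨z, hz, hze⟩ := this
    have : z = y * x * y⁻¹ := Subtype.ext hze
    rwa [← this]
  exact (Group.isNilpotent_of_finite_tfae.out 0 3).mpr hsyl

theorem component_structure (h : PMin p S M) (hOp : pCore p P = ⊥) {K : Subgroup P}
    (hK : IsComponent K) :
    ¬ K ≤ M ∧ pResidual p P = layer P ∧ generalizedFittingSubgroup P = layer P ∧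
      layer P = ⨆ s : ↥(S : Subgroup P), K.map (MulAut.conj (s : P)).toMonoidHom := by
  classical
  have hlayerM : ¬ layer P ≤ M := by
    intro hle
    haveI := h.normal_le_isNilpotent hOp (layer P) hle
    exact Components.component_not_le_isSolvable hK inferInstance (Components.component_le_layer hK)
  have hres : pResidual p P ≤ layer P :=
    (h.residual_le_or_le_core (N := layer P)).resolve_right fun hle =>
      hlayerM (hle.trans (normalCore_le M))
  have hOE : pResidual p P = layer P := le_antisymm hres (layer_le_residual p)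
  have hfit : fittingSubgroup P ≤ M := by
    haveI : Group.IsNilpotent ↥(fittingSubgroup P) := Fitting.fitting_isNilpotent
    rcases h.residual_le_or_le_core (N := fittingSubgroup P) with h1 | h1
    · exact absurd (((Components.component_le_layer hK).trans hOE.ge).trans h1)
        (Components.component_not_le_isSolvable hK inferInstance)
    · exact h1.trans (normalCore_le M)
  have hFE : fittingSubgroup P ≤ layer P := by
    have hbot : fittingSubgroup P ⊓ (S : Subgroup P) = ⊥ :=
      le_bot_iff.1 (hOp ▸ h.normal_inf_sylow_le hfit)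
    obtain ⟨T₀, hT₀⟩ := Transfer.exists_sylow_subgroupOf_normal S (fittingSubgroup P)
    have hb : (T₀ : Subgroup ↥(fittingSubgroup P)) = ⊥ := by
      apply map_injective (fittingSubgroup P).subtype_injective
      rw [hT₀, subgroupOf_map_subtype, inf_comm, hbot, Subgroup.map_bot]
    have hpF : ¬ p ∣ Nat.card ↥(fittingSubgroup P) := by
      have := T₀.not_dvd_index
      rwa [hb, index_bot] at this
    intro x hx
    rw [← hOE]
    refine Thompson.mem_pResidual_of_coprime
      (((hp.out.coprime_iff_not_dvd).2 fun hd => hpF (hd.trans ?_)).symm)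
    have := orderOf_dvd_natCard (⟨x, hx⟩ : ↥(fittingSubgroup P))
    rwa [orderOf_mk] at this
  have hF : generalizedFittingSubgroup P = layer P := by
    rw [generalizedFittingSubgroup, sup_eq_left]
    exact hFE
  -- the join of the conjugates
  set X : Subgroup P := ⨆ s : ↥(S : Subgroup P), K.map (MulAut.conj (s : P)).toMonoidHom with hX
  have hEN : layer P ≤ normalizer (X : Set P) := le_normalizer_iSup fun s =>
    Components.layer_le_normalizer (Components.component_map_conj (s : P) hK)
  haveI hXn : X.Normal := by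
    rw [← normalizer_eq_top_iff, eq_top_iff, ← Transfer.sylow_sup_pResidual_eq_top S, hOE]
    exact sup_le (le_normalizer_iSup_conj _ K) hEN
  have hKM : ¬ K ≤ M := by
    intro hle
    have hXM : X ≤ M := iSup_le fun s => (map_mono hle).trans (conj_eq_of_mem (h.le s.2)).le
    haveI := h.normal_le_isNilpotent hOp X hXM
    exact Components.component_not_le_isSolvable hK (H := X) inferInstance (le_iSup_conj _ K)
  refine ⟨hKM, hOE, hF, le_antisymm ?_ (iSup_le fun s =>
    Components.component_le_layer (Components.component_map_conj (s : P) hK))⟩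
  rcases h.residual_le_or_le_core (N := X) with h1 | h1
  · exact hOE ▸ h1
  · exact absurd ((le_iSup_conj _ K).trans (h1.trans (normalCore_le M))) hKM

end PMin

end Cfsg.Agent.LargeSub
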