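import Cfsg.Agent.LargeSub.Basic

/-!
The largest `p`-reduced normal subgroup of a subgroup.
-/

set_option autoImplicit false
set_option linter.unusedSectionVars false
set_option linter.style.haveILetI false

open Subgroup Cfsg

namespace Cfsg.Agent.LargeSub

variable {L : Type*} [Group L] {p : ℕ}

theorem isPGroup_of_isElementaryAbelian {V : Subgroup L} (h : Cfsg.IsElementaryAbelian p V) :
    IsPGroup p V := fun x => ⟨1, Subtype.ext (by simpa using h.2 x x.2)⟩

/-- A normal subgroup acting as a `p`-group on a `p`-reduced normal subgroup centralizes it. -/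
theorem le_centralizer_of_reduced {V N : Subgroup L} [N.Normal] (hV : IsPReducedNormal p V)
    (hN : ∀ x ∈ N, ∃ k, x ^ p ^ k ∈ centralizer (V : Set L)) :
    N ≤ centralizer (V : Set L) := by
  obtain ⟨hVn, -, hC, hred⟩ := hV
  haveI := hC
  have h2 : IsPGroup p ↥(N.map (QuotientGroup.mk' (centralizer (V : Set L)))) := by
    rintro ⟨_, x, hx, rfl⟩
    obtain ⟨k, hk⟩ := hN x hx
    refine ⟨k, Subtype.ext ?_⟩
    simp only [SubmonoidClass.coe_pow, OneMemClass.coe_one, ← map_pow]
    exact (QuotientGroup.eq_one_iff _).2 hk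
  have h3 := Thompson.le_pCore
    (‹N.Normal›.map _ (QuotientGroup.mk'_surjective (centralizer (V : Set L)))) h2
  rw [hred, le_bot_iff, Subgroup.map_eq_bot_iff, QuotientGroup.ker_mk'] at h3
  exact h3

theorem isPGroup_le_centralizer_of_reduced {V N : Subgroup L} [N.Normal]
    (hV : IsPReducedNormal p V) (hN : IsPGroup p N) : N ≤ centralizer (V : Set L) :=
  le_centralizer_of_reduced hV fun x hx => by
    obtain ⟨k, hk⟩ := hN ⟨x, hx⟩
    refine ⟨k, ?_⟩
    have h : x ^ p ^ k = 1 := congrArg Subtype.val hk
    rw [h]; exact one_mem _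

theorem largestPReduced_isPReducedNormal : IsPReducedNormal p (largestPReduced p L) := by
  classical
  set S : Set L := {x | ∃ V : Subgroup L, IsPReducedNormal p V ∧ x ∈ V} with hS
  have hY : largestPReduced p L = closure S := by
    apply le_antisymm
    · exact sSup_le fun V hV x hx => subset_closure ⟨V, hV, hx⟩
    · rw [closure_le]
      rintro x ⟨V, hV, hx⟩
      exact (le_sSup hV : V ≤ largestPReduced p L) hx
  have hcomm : ∀ x ∈ S, ∀ y ∈ S, x * y = y * x := by
    rintro x ⟨V, hV, hx⟩ y ⟨W, hW, hy⟩
    haveI := hW.1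
    exact Subgroup.mem_centralizer_iff.1
      (isPGroup_le_centralizer_of_reduced hV (isPGroup_of_isElementaryAbelian hW.2.1) hy) x hx
  haveI hcommY : IsMulCommutative (closure S) := Subgroup.isMulCommutative_closure hcomm
  haveI hn : (largestPReduced p L).Normal := Subgroup.sSup_normal _ fun _ h => h.1
  refine ⟨hn, ⟨by rw [hY]; infer_instance, ?_⟩, inferInstance, ?_⟩
  · rw [hY]
    intro a ha
    induction ha using Subgroup.closure_induction with
    | mem x hx =>
      obtain ⟨V, hV, hx⟩ := hx
      exact hV.2.1.2 x hx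
    | one => simp
    | mul x y hx hy ihx ihy =>
      have hxy : Commute x y := setLike_mul_comm hx hy
      rw [hxy.mul_pow, ihx, ihy, one_mul]
    | inv x hx ih => rw [inv_pow, ih, inv_one]
  · set C := centralizer (largestPReduced p L : Set L) with hC
    set P := (pCore p (L ⧸ C)).comap (QuotientGroup.mk' C) with hP
    have hle : P ≤ C := by
      intro x hx
      rw [hC, hY, Subgroup.centralizer_closure, Subgroup.mem_centralizer_iff]
      rintro y ⟨V, hV, hy⟩
      have hPV : P ≤ centralizer (V : Set L) := by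
        refine le_centralizer_of_reduced hV fun z hz => ?_
        obtain ⟨k, hk⟩ := (Thompson.isPGroup_pCore (p := p) (G := L ⧸ C)) ⟨_, hz⟩
        refine ⟨k, ?_⟩
        have h1 : z ^ p ^ k ∈ C := by
          rw [← QuotientGroup.eq_one_iff (z ^ p ^ k)]
          exact congrArg Subtype.val hk
        exact Subgroup.centralizer_le (le_sSup hV : V ≤ largestPReduced p L) h1
      exact Subgroup.mem_centralizer_iff.1 (hPV hx) y hy
    rw [eq_bot_iff]
    intro q hq
    obtain ⟨z, rfl⟩ := QuotientGroup.mk'_surjective C q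
    exact (QuotientGroup.eq_one_iff z).2 (hle hq)

/-! ### The inner form -/

variable {G : Type*} [Group G]

theorem largestPReducedOf_le (H : Subgroup G) : largestPReducedOf p H ≤ H :=
  Subgroup.map_subtype_le _

theorem le_normalizer_largestPReducedOf (H : Subgroup G) :
    H ≤ normalizer (largestPReducedOf p H : Set G) := by
  haveI := (largestPReduced_isPReducedNormal (p := p) (L := H)).1
  exact le_normalizer_map_subtype _

theorem isElementaryAbelian_largestPReducedOf (H : Subgroup G) :
    Cfsg.IsElementaryAbelian p (largestPReducedOf p H) := by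
  obtain ⟨hc, hp⟩ := (largestPReduced_isPReducedNormal (p := p) (L := H)).2.1
  refine ⟨Subgroup.map_isMulCommutative _ H.subtype, ?_⟩
  rintro _ ⟨a, ha, rfl⟩
  rw [← map_pow, hp a ha, map_one]

theorem isPGroup_largestPReducedOf (H : Subgroup G) :
    IsPGroup p ↥(largestPReducedOf p H) :=
  isPGroup_of_isElementaryAbelian (isElementaryAbelian_largestPReducedOf H)

theorem largestPReducedOf_le_pCoreOf (H : Subgroup G) :
    largestPReducedOf p H ≤ pCoreOf p H :=
  le_pCoreOf (largestPReducedOf_le H) (le_normalizer_largestPReducedOf H)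
    (isPGroup_largestPReducedOf H)

theorem pCoreOf_le_centralizer_largestPReducedOf (H : Subgroup G) :
    pCoreOf p H ≤ centralizer (largestPReducedOf p H : Set G) := by
  rintro _ ⟨x, hx, rfl⟩
  rw [Subgroup.mem_centralizer_iff]
  rintro _ ⟨y, hy, rfl⟩
  exact congrArg Subtype.val (Subgroup.mem_centralizer_iff.1
    (isPGroup_le_centralizer_of_reduced largestPReduced_isPReducedNormal
      Thompson.isPGroup_pCore hx) y hy)

/-- A subgroup normal in `H` which is `p`-reduced, tested inside `G`. -/
theorem le_largestPReducedOf_of_reduced {H W : Subgroup G} (hWH : W ≤ H)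
    (hn : H ≤ normalizer (W : Set G)) (hW : Cfsg.IsElementaryAbelian p W)
    (hred : ∀ N : Subgroup G, N ≤ H → H ≤ normalizer (N : Set G) →
      (∀ x ∈ N, ∃ k, x ^ p ^ k ∈ centralizer (W : Set G)) → N ≤ centralizer (W : Set G)) :
    W ≤ largestPReducedOf p H := by
  haveI hWn : (W.subgroupOf H).Normal := normal_subgroupOf_of_le_normalizer hn
  have hV : IsPReducedNormal p (W.subgroupOf H) := by
    refine ⟨hWn, ⟨?_, fun a ha => Subtype.ext (by simpa using hW.2 a ha)⟩, inferInstance, ?_⟩
    · haveI := hW.1
      exact Subgroup.comap_injective_isMulCommutative W H.subtype_injective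
    · set C := centralizer (W.subgroupOf H : Set H) with hC
      set P := (pCore p (↥H ⧸ C)).comap (QuotientGroup.mk' C) with hP
      have hmem : ∀ z : H, z ∈ C ↔ (z : G) ∈ centralizer (W : Set G) := by
        intro z
        rw [hC, Subgroup.mem_centralizer_iff, Subgroup.mem_centralizer_iff]
        constructor
        · intro h w hw
          exact congrArg Subtype.val (h ⟨w, hWH hw⟩ hw)
        · intro h w hw
          exact Subtype.ext (h w hw)
      have hle : P.map H.subtype ≤ centralizer (W : Set G) := by
        refine hred _ (Subgroup.map_subtype_le _) (le_normalizer_map_subtype P) ?_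
        rintro _ ⟨z, hz, rfl⟩
        obtain ⟨k, hk⟩ := (Thompson.isPGroup_pCore (p := p) (G := ↥H ⧸ C)) ⟨_, hz⟩
        refine ⟨k, ?_⟩
        have h1 : z ^ p ^ k ∈ C := by
          rw [← QuotientGroup.eq_one_iff (z ^ p ^ k)]
          exact congrArg Subtype.val hk
        simpa using (hmem _).1 h1
      rw [eq_bot_iff]
      intro q hq
      obtain ⟨z, rfl⟩ := QuotientGroup.mk'_surjective C q
      exact (QuotientGroup.eq_one_iff z).2 ((hmem z).2 (hle ⟨z, hq, rfl⟩))
  intro w hw
  exact ⟨⟨w, hWH hw⟩, (le_sSup hV : W.subgroupOf H ≤ largestPReduced p ↥H) hw, rfl⟩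

/-- A nontrivial `p`-group has a nontrivial `p`-reduced normal subgroup. -/
theorem largestPReduced_ne_bot [Finite L] [Fact p.Prime] (hL : IsPGroup p L) [Nontrivial L] :
    largestPReduced p L ≠ ⊥ := by
  have hz : Nontrivial (center L) := hL.center_nontrivial
  have hdvd : p ∣ Nat.card (center L) := by
    rcases (hL.to_subgroup (center L)).card_eq_or_dvd with h | h
    · exact absurd h Finite.one_lt_card.ne'
    · exact h
  obtain ⟨z, hz'⟩ := exists_prime_orderOf_dvd_card' p hdvd
  have hzc : (z : L) ∈ center L := z.2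
  set V := zpowers (z : L) with hV
  have hVc : V ≤ center L := zpowers_le.2 hzc
  have hC : centralizer (V : Set L) = ⊤ := Subgroup.centralizer_eq_top_iff_subset.2 hVc
  haveI hCn : (centralizer (V : Set L)).Normal := hC.symm ▸ Subgroup.normal_top
  have hVr : IsPReducedNormal p V := by
    refine ⟨⟨fun n hn g => ?_⟩, ⟨inferInstance, ?_⟩, hCn, ?_⟩
    · have h1 : g * n = n * g := (Subgroup.mem_center_iff.1 (hVc hn) g)
      rwa [h1, mul_inv_cancel_right]
    · intro a ha
      obtain ⟨i, rfl⟩ := Subgroup.mem_zpowers_iff.1 ha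
      have hzp : (z : L) ^ p = 1 := by
        rw [← hz', Subgroup.orderOf_mk] at *
        exact pow_orderOf_eq_one _
      rw [← zpow_natCast, ← zpow_mul, mul_comm, zpow_mul, zpow_natCast, hzp, one_zpow]
    · rw [eq_bot_iff]
      intro q _
      obtain ⟨g, rfl⟩ := QuotientGroup.mk_surjective q
      exact (QuotientGroup.eq_one_iff g).2 (hC.symm ▸ Subgroup.mem_top g)
  intro h
  have hle : V ≤ largestPReduced p L := le_sSup hVr
  rw [h, le_bot_iff, hV, zpowers_eq_bot] at hle
  have h1 : orderOf (z : L) = p := by rw [← hz', Subgroup.orderOf_coe]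
  rw [hle, orderOf_one] at h1
  exact (Fact.out : p.Prime).ne_one h1.symm

end Cfsg.Agent.LargeSub
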