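import Cfsg.Agent.LargeSub.Basic
import Cfsg.Agent.Lib.Components.Basic

/-!
Images of subgroups in a section `E / C`, and perfect central extensions.
-/

set_option autoImplicit false
set_option linter.unusedSectionVars false

open Subgroup Cfsg
open scoped commutatorElement

namespace Cfsg.Agent.LargeSub

variable {G : Type*} [Group G]

/-- The image of `A` in `E / C`. -/
def secImg (E : Subgroup G) (C : Subgroup ↥E) [C.Normal] (A : Subgroup G) : Subgroup (↥E ⧸ C) :=
  (A.subgroupOf E).map (QuotientGroup.mk' C)

theorem secImg_le_iff {E : Subgroup G} {C : Subgroup ↥E} [C.Normal] {A B : Subgroup G}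
    (hA : A ≤ E) (hB : B ≤ E) :
    secImg E C A ≤ secImg E C B ↔ A ≤ B ⊔ C.map E.subtype := by
  rw [secImg, secImg, Subgroup.map_le_iff_le_comap, Subgroup.comap_map_eq, QuotientGroup.ker_mk',
    ← Subgroup.map_le_map_iff_of_injective E.subtype_injective, Subgroup.map_sup,
    Subgroup.subgroupOf_map_subtype, Subgroup.subgroupOf_map_subtype, inf_eq_left.2 hA,
    inf_eq_left.2 hB]

theorem secImg_eq_bot_iff {E : Subgroup G} {C : Subgroup ↥E} [C.Normal] {A : Subgroup G}
    (hA : A ≤ E) : secImg E C A = ⊥ ↔ A ≤ C.map E.subtype := by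
  rw [secImg, Subgroup.map_eq_bot_iff, QuotientGroup.ker_mk',
    ← Subgroup.map_le_map_iff_of_injective E.subtype_injective,
    Subgroup.subgroupOf_map_subtype, inf_eq_left.2 hA]

theorem secImg_commutator {E : Subgroup G} {C : Subgroup ↥E} [C.Normal] {A B : Subgroup G}
    (hA : A ≤ E) (hB : B ≤ E) :
    secImg E C ⁅A, B⁆ = ⁅secImg E C A, secImg E C B⁆ := by
  rw [secImg, secImg, secImg, ← Subgroup.map_commutator]
  congr 1
  apply Subgroup.map_injective E.subtype_injective
  rw [Subgroup.map_commutator, Subgroup.subgroupOf_map_subtype, Subgroup.subgroupOf_map_subtype,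
    Subgroup.subgroupOf_map_subtype, inf_eq_left.2 hA, inf_eq_left.2 hB, inf_eq_left.2
      ((Subgroup.commutator_mono hA hB).trans (E.commutator_le_self))]

theorem secImg_normal {E : Subgroup G} {C : Subgroup ↥E} [C.Normal] {A : Subgroup G}
    (hA : A ≤ E) (hn : E ≤ normalizer (A : Set G)) : (secImg E C A).Normal := by
  haveI : (A.subgroupOf E).Normal := (normal_subgroupOf_iff_le_normalizer hA).2 hn
  exact Subgroup.Normal.map inferInstance _ (QuotientGroup.mk'_surjective C)

theorem secImg_mono {E : Subgroup G} {C : Subgroup ↥E} [C.Normal] {A B : Subgroup G} (h : A ≤ B) :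
    secImg E C A ≤ secImg E C B := Subgroup.map_mono (Subgroup.comap_mono h)

theorem isPGroup_secImg {p : ℕ} {E : Subgroup G} {C : Subgroup ↥E} [C.Normal] {A : Subgroup G}
    (hA : IsPGroup p A) : IsPGroup p (secImg E C A) :=
  (hA.comap_subtype (K := E)).map _

theorem isQuasisimple_of_central_quotient {X Y : Type*} [Group X] [Finite X] [Group Y]
    [hX : Group.IsPerfect X] (f : X →* Y) (hf : Function.Surjective f) (hY : IsQuasisimple Y)
    (hker : f.ker ≤ center X) : IsQuasisimple X := by
  haveI := Components.nontrivial_of_isQuasisimple hY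
  haveI : Nontrivial X := hf.nontrivial
  refine Components.isQuasisimple_of_forall_normal fun N hN => ?_
  haveI := hN
  haveI := hN.map f hf
  rcases Components.normal_eq_top_or_le_center hY (N.map f) with h | h
  · left
    refine Components.eq_top_of_sup_center_eq_top (eq_top_iff.2 ?_)
    refine le_trans ?_ (sup_le_sup_left hker N)
    rw [← Subgroup.comap_map_eq, h, Subgroup.comap_top]
  · right
    have h1 : ⁅N, (⊤ : Subgroup X)⁆ ≤ center X := by
      refine le_trans ?_ hker
      rw [← Subgroup.map_eq_bot_iff, Subgroup.map_commutator, Subgroup.commutator_eq_bot_iff_le_centralizer]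
      refine h.trans ?_
      exact Subgroup.center_le_centralizer _
    have h2 : ⁅⁅N, (⊤ : Subgroup X)⁆, (⊤ : Subgroup X)⁆ = ⊥ := by
      rw [Subgroup.commutator_eq_bot_iff_le_centralizer]
      exact h1.trans (Subgroup.center_le_centralizer _)
    have htop : ⁅(⊤ : Subgroup X), (⊤ : Subgroup X)⁆ = ⊤ := hX.commutator_eq_top
    have h3 := Components.commutator_eq_bot_of_perfect htop h2
    rw [Subgroup.commutator_comm, Subgroup.commutator_eq_bot_iff_le_centralizer, Subgroup.coe_top,
      Subgroup.centralizer_univ] at h3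
    exact h3

end Cfsg.Agent.LargeSub
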