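import Cfsg.Prelude.Def_LocalStructure
import Cfsg.Agent.LocalEven61.Amalgam
import Cfsg.Agent.Lib.Transfer.Residual
import Cfsg.Agent.S2750

/-!
The iterated closures `V_λ^(n)` on the coset graph of an amalgam with strongly `p`-embedded
residues: `O^p(L_λ)` does not centralize the top sections.
-/

set_option autoImplicit false
set_option linter.unusedSectionVars false
set_option linter.style.haveILetI false
set_option linter.unusedVariables false

open Subgroup Cfsg
open scoped commutatorElement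

namespace Cfsg.Agent.LargeSub.VIter

variable {X : Type*} [Group X] {p : ℕ} {M₁ M₂ : Subgroup X}

theorem dist_smul (hgen : M₁ ⊔ M₂ = ⊤) (g : X) (a b : CosetVertex M₁ M₂) :
    (cosetGraph M₁ M₂).dist (g • a) (g • b) = (cosetGraph M₁ M₂).dist a b := by
  have key : ∀ (g : X) (a b : CosetVertex M₁ M₂),
      (cosetGraph M₁ M₂).dist (g • a) (g • b) ≤ (cosetGraph M₁ M₂).dist a b := by
    intro g a b
    obtain ⟨w, hw⟩ := (LocalEven61.cosetGraph_connected hgen).exists_walk_length_eq_dist a b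
    rw [← hw]
    let f : cosetGraph M₁ M₂ →g cosetGraph M₁ M₂ :=
      ⟨fun v => g • v, fun hv => LocalEven61.cosetGraph_adj_smul g hv⟩
    exact (SimpleGraph.dist_le (w.map f)).trans (le_of_eq (SimpleGraph.Walk.length_map f w))
  refine le_antisymm (key g a b) ?_
  have := key g⁻¹ (g • a) (g • b)
  rwa [inv_smul_smul, inv_smul_smul] at this

theorem map_conj_le_iff {H K : Subgroup X} {g : X} :
    H.map (MulAut.conj g).toMonoidHom ≤ K ↔ ∀ x ∈ H, g * x * g⁻¹ ∈ K :=
  ⟨fun h x hx => h ⟨x, hx, rfl⟩, fun h => by rintro _ ⟨x, hx, rfl⟩; exact h x hx⟩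

/-- `Ω₁(Z(S))`-closures are carried along by conjugation. -/
theorem vertexZ_smul_le [Fact p.Prime] [Finite ↥M₁] [Finite ↥M₂] (g : X)
    (δ : CosetVertex M₁ M₂) :
    (vertexZ p δ).map (MulAut.conj g).toMonoidHom ≤ vertexZ p (g • δ) := by
  haveI := LocalEven61.finite_stabilizer δ
  haveI := LocalEven61.finite_stabilizer (g • δ)
  rw [vertexZ, LocalEven61.sylowCenterClosure_eq, Subgroup.map_iSup]
  refine iSup_le fun S => ?_
  rw [LocalEven61.omegaZ_map]
  have hst : MulAction.stabilizer X (g • δ) =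
      (MulAction.stabilizer X δ).map (MulAut.conj g).toMonoidHom :=
    MulAction.stabilizer_smul_eq_stabilizer_map_conj g δ
  set T := ((S : Subgroup ↥(MulAction.stabilizer X δ)).map
    (MulAction.stabilizer X δ).subtype).map (MulAut.conj g).toMonoidHom with hT
  have hle : T ≤ MulAction.stabilizer X (g • δ) := by
    rw [hst]; exact Subgroup.map_mono (Subgroup.map_subtype_le _)
  have hcard : Nat.card ↥(T.subgroupOf (MulAction.stabilizer X (g • δ))) =
      p ^ (Nat.card ↥(MulAction.stabilizer X (g • δ))).factorization p := by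
    rw [Nat.card_congr (Subgroup.subgroupOfEquivOfLe hle).toEquiv, hT,
      LocalEven61.card_conj_map, Subgroup.card_map_of_injective Subtype.val_injective,
      Sylow.card_eq_multiplicity, hst, LocalEven61.card_conj_map]
  have h := LocalEven61.omegaZ_le_sylowCenterClosure _ (Sylow.ofCard _ hcard)
  rw [Sylow.coe_ofCard, Subgroup.subgroupOf_map_subtype, inf_eq_left.2 hle] at h
  exact h

theorem VIter_smul_le [Fact p.Prime] [Finite ↥M₁] [Finite ↥M₂] (hgen : M₁ ⊔ M₂ = ⊤) (g : X)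
    (k : ℕ) (δ : CosetVertex M₁ M₂) :
    (vertexVIter p M₁ M₂ k δ).map (MulAut.conj g).toMonoidHom ≤
      vertexVIter p M₁ M₂ k (g • δ) := by
  rw [vertexVIter, Subgroup.map_iSup]
  refine iSup_le fun ν => (vertexZ_smul_le g (ν : CosetVertex M₁ M₂)).trans ?_
  exact le_iSup (fun μ : {μ : CosetVertex M₁ M₂ //
      (cosetGraph M₁ M₂).dist (g • δ) μ ≤ k} => vertexZ p (μ : CosetVertex M₁ M₂))
    ⟨g • (ν : CosetVertex M₁ M₂), by rw [dist_smul hgen]; exact ν.2⟩

theorem VIter_smul [Fact p.Prime] [Finite ↥M₁] [Finite ↥M₂] (hgen : M₁ ⊔ M₂ = ⊤) (g : X)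
    (k : ℕ) (δ : CosetVertex M₁ M₂) :
    vertexVIter p M₁ M₂ k (g • δ) =
      (vertexVIter p M₁ M₂ k δ).map (MulAut.conj g).toMonoidHom := by
  refine le_antisymm (fun x hx => ?_) (VIter_smul_le hgen g k δ)
  have := VIter_smul_le (p := p) hgen g⁻¹ k (g • δ) ⟨x, hx, rfl⟩
  rw [inv_smul_smul] at this
  exact ⟨_, this, by simp [mul_assoc]⟩

theorem stabilizer_normalizes [Fact p.Prime] [Finite ↥M₁] [Finite ↥M₂] (hgen : M₁ ⊔ M₂ = ⊤)
    (k : ℕ) (δ : CosetVertex M₁ M₂) :
    MulAction.stabilizer X δ ≤ normalizer (vertexVIter p M₁ M₂ k δ : Set X) := by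
  intro g hg
  have h1 : ∀ g ∈ MulAction.stabilizer X δ, ∀ x ∈ vertexVIter p M₁ M₂ k δ,
      g * x * g⁻¹ ∈ vertexVIter p M₁ M₂ k δ := by
    intro g hg x hx
    have := VIter_smul_le (p := p) hgen g k δ ⟨x, hx, rfl⟩
    rwa [show g • δ = δ from hg] at this
  rw [Subgroup.mem_normalizer_iff]
  refine fun x => ⟨h1 g hg x, fun hx => ?_⟩
  simpa [mul_assoc] using h1 g⁻¹ (inv_mem hg) _ hx

theorem vertexZ_le_VIter (hgen : M₁ ⊔ M₂ = ⊤) (k : ℕ) (δ μ : CosetVertex M₁ M₂)
    (h : (cosetGraph M₁ M₂).dist δ μ ≤ k) : vertexZ p μ ≤ vertexVIter p M₁ M₂ k δ :=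
  le_iSup (fun ν : {ν : CosetVertex M₁ M₂ // (cosetGraph M₁ M₂).dist δ ν ≤ k} =>
    vertexZ p (ν : CosetVertex M₁ M₂)) ⟨μ, h⟩

theorem VIter_mono (hgen : M₁ ⊔ M₂ = ⊤) {k l : ℕ} {δ μ : CosetVertex M₁ M₂}
    (h : (cosetGraph M₁ M₂).dist μ δ + k ≤ l) :
    vertexVIter p M₁ M₂ k δ ≤ vertexVIter p M₁ M₂ l μ := by
  refine iSup_le fun ν => vertexZ_le_VIter hgen l μ ν ?_
  have := (LocalEven61.cosetGraph_connected hgen).dist_triangle (u := μ) (v := δ)
    (w := (ν : CosetVertex M₁ M₂))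
  have := ν.2
  omega

/-- In a finite `p`-group, a normal subgroup covering `V` modulo `[V,Q]` contains `V`. -/
theorem le_of_le_sup_commutator [Fact p.Prime] {W V Q : Subgroup X} [Finite ↥Q]
    (hQ : IsPGroup p ↥Q) (hV : V ≤ Q) (hW : W ≤ Q) (hQW : Q ≤ normalizer (W : Set X))
    (h : V ≤ W ⊔ ⁅V, Q⁆) : V ≤ W := by
  haveI : (W.subgroupOf Q).Normal := (Subgroup.normal_subgroupOf_iff_le_normalizer hW).2 hQW
  haveI : Group.IsNilpotent (↥Q ⧸ W.subgroupOf Q) :=
    (hQ.to_quotient (W.subgroupOf Q)).isNilpotent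
  let f := QuotientGroup.mk' (W.subgroupOf Q)
  set Vb := (V.subgroupOf Q).map f with hVb
  have e1 : ((⁅V.subgroupOf Q, (⊤ : Subgroup ↥Q)⁆ : Subgroup ↥Q).map Q.subtype) = ⁅V, Q⁆ := by
    rw [Subgroup.map_commutator, Subgroup.subgroupOf_map_subtype, inf_eq_left.2 hV,
      ← MonoidHom.range_eq_map, Q.range_subtype]
  have hVV : Vb ≤ ⁅Vb, (⊤ : Subgroup (↥Q ⧸ W.subgroupOf Q))⁆ := by
    have h1 : V.subgroupOf Q ≤ W.subgroupOf Q ⊔ ⁅V.subgroupOf Q, (⊤ : Subgroup ↥Q)⁆ := by
      intro x hx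
      have h2 : (x : X) ∈ (W.subgroupOf Q ⊔ ⁅V.subgroupOf Q, (⊤ : Subgroup ↥Q)⁆).map Q.subtype := by
        rw [Subgroup.map_sup, e1, Subgroup.subgroupOf_map_subtype, inf_eq_left.2 hW]
        exact h hx
      obtain ⟨y, hy, hyx⟩ := h2
      rwa [← Subtype.ext hyx]
    refine (Subgroup.map_mono h1).trans ?_
    rw [Subgroup.map_sup, Subgroup.map_commutator, Subgroup.map_top_of_surjective f
      (QuotientGroup.mk'_surjective _), (Subgroup.map_eq_bot_iff _).2 (QuotientGroup.ker_mk' _).ge,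
      bot_sup_eq]
  have hlc : ∀ k, Vb ≤ Subgroup.lowerCentralSeries ((⊤ : Subgroup (↥Q ⧸ W.subgroupOf Q))) k := by
    intro k
    induction k with
    | zero => simp
    | succ k ih =>
      rw [Subgroup.lowerCentralSeries_succ]
      exact hVV.trans (Subgroup.commutator_mono ih le_top)
  obtain ⟨k, hk⟩ := Subgroup.nilpotent_iff_lowerCentralSeries.1
    (inferInstance : Group.IsNilpotent (↥Q ⧸ W.subgroupOf Q))
  intro x hx
  have h3 : Vb = ⊥ := le_bot_iff.1 (hk ▸ hlc k)
  have h4 := (Subgroup.map_eq_bot_iff _).1 h3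
  rw [QuotientGroup.ker_mk'] at h4
  exact h4 (show (⟨x, hV hx⟩ : ↥Q) ∈ V.subgroupOf Q from hx)

/-- The normalizers of a common Sylow subgroup in the two vertex groups of an edge agree. -/
theorem normalizer_sylow_le [Fact p.Prime] (h : IsSpeAmalgamPair p M₁ M₂)
    {δ μ : CosetVertex M₁ M₂} (hμ : (cosetGraph M₁ M₂).Adj δ μ)
    (S : Sylow p ↥(edgeStabilizer δ μ)) :
    MulAction.stabilizer X δ ⊓ normalizer
        (((S : Subgroup ↥(edgeStabilizer δ μ)).map (edgeStabilizer δ μ).subtype : Subgroup X)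
          : Set X) ≤ MulAction.stabilizer X μ := by
  haveI := h.1.2.1
  haveI := h.1.2.2.1
  obtain ⟨x, hx⟩ := LocalEven61.cosetGraph_adj_cases hμ
  set T := (S : Subgroup ↥(edgeStabilizer δ μ)).map (edgeStabilizer δ μ).subtype with hT
  have hE : edgeStabilizer δ μ = (M₁ ⊓ M₂).map (MulAut.conj x).toMonoidHom := by
    rcases hx with ⟨rfl, rfl⟩ | ⟨rfl, rfl⟩
    · exact LocalEven61.edgeStabilizer_mk x
    · rw [edgeStabilizer, inf_comm]; exact LocalEven61.edgeStabilizer_mk x
  haveI : Finite ↥(M₁ ⊓ M₂) := Finite.of_injective _ (Subgroup.inclusion_injective inf_le_left)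
  haveI := LocalEven61.finite_stabilizer δ
  haveI : Finite ↥(edgeStabilizer δ μ) :=
    Finite.of_injective _ (Subgroup.inclusion_injective inf_le_left)
  set T₀ := T.map (MulAut.conj x).symm.toMonoidHom with hT₀
  have hT₀le : T₀ ≤ M₁ ⊓ M₂ := by
    rintro _ ⟨t, ht, rfl⟩
    have ht' : t ∈ edgeStabilizer δ μ := Subgroup.map_subtype_le _ ht
    rw [hE, Subgroup.mem_map_equiv] at ht'
    exact ht'
  have hcard : Nat.card ↥(T₀.subgroupOf (M₁ ⊓ M₂)) =
      p ^ (Nat.card ↥(M₁ ⊓ M₂)).factorization p := by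
    rw [Nat.card_congr (Subgroup.subgroupOfEquivOfLe hT₀le).toEquiv, hT₀,
      Subgroup.card_map_of_injective (MulAut.conj x).symm.injective, hT,
      Subgroup.card_map_of_injective Subtype.val_injective, Sylow.card_eq_multiplicity, hE,
      LocalEven61.card_conj_map]
  have h0 := (h.2.1 (Sylow.ofCard _ hcard))
  rw [Sylow.coe_ofCard, Subgroup.subgroupOf_map_subtype, inf_eq_left.2 hT₀le] at h0
  have hTT : T₀.map (MulAut.conj x).toMonoidHom = T := by
    ext y
    simp [hT₀, Subgroup.mem_map_equiv, mul_assoc]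
  have h1 := congrArg (fun K : Subgroup X => K.map (MulAut.conj x).toMonoidHom) h0.1
  rw [Subgroup.map_inf _ _ (MulAut.conj x).toMonoidHom (MulAut.conj x).injective,
    Subgroup.map_inf _ _ (MulAut.conj x).toMonoidHom (MulAut.conj x).injective,
    Subgroup.map_equiv_normalizer_eq, hTT] at h1
  rcases hx with ⟨rfl, rfl⟩ | ⟨rfl, rfl⟩
  · rw [LocalEven61.stabilizer_inl, LocalEven61.stabilizer_inr]
    exact fun y hy => (h1.le hy).1
  · rw [LocalEven61.stabilizer_inl, LocalEven61.stabilizer_inr]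
    exact fun y hy => (h1.ge hy).1

/-- `O^{p'}(G_δ)` is transitive on the neighbours of `δ`. -/
theorem exists_closure_smul [Fact p.Prime] (h : IsSpeAmalgamPair p M₁ M₂)
    {δ μ ν : CosetVertex M₁ M₂} (hμ : (cosetGraph M₁ M₂).Adj δ μ)
    (hν : (cosetGraph M₁ M₂).Adj δ ν) :
    ∃ g ∈ pElementClosure p (MulAction.stabilizer X δ), g • μ = ν := by
  haveI := h.1.2.1
  haveI := h.1.2.2.1
  haveI := LocalEven61.finite_stabilizer δ
  haveI : Finite ↥(edgeStabilizer δ μ) :=
    Finite.of_injective _ (Subgroup.inclusion_injective inf_le_left)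
  have S : Sylow p ↥(edgeStabilizer δ μ) := default
  obtain ⟨P, hP⟩ := LocalEven61.edge_sylow h.1 hμ S
  set Ov := pElementClosure p (MulAction.stabilizer X δ) with hOv
  have hOle : Ov ≤ MulAction.stabilizer X δ := LocalEven61.pElementClosure_le _
  haveI : (Ov.subgroupOf (MulAction.stabilizer X δ)).Normal :=
    (Subgroup.normal_subgroupOf_iff_le_normalizer hOle).2
      (LocalEven61.pElementClosure_normalized _)
  have hPO : (P : Subgroup ↥(MulAction.stabilizer X δ)) ≤
      Ov.subgroupOf (MulAction.stabilizer X δ) := fun y hy =>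
    LocalEven61.mem_pElementClosure_of_pGroup (P.isPGroup'.map _)
      (Subgroup.map_subtype_le _) ⟨y, hy, rfl⟩
  have hfr := P.normalizer_sup_eq_top' hPO
  obtain ⟨g, hg, hgν⟩ := LocalEven61.exists_smul_neighbour hμ hν
  have hmem : (⟨g, hg⟩ : ↥(MulAction.stabilizer X δ)) ∈
      (Ov.subgroupOf (MulAction.stabilizer X δ)) ⊔
        normalizer (P : Set ↥(MulAction.stabilizer X δ)) := by
    rw [sup_comm, hfr]; exact Subgroup.mem_top _
  obtain ⟨o, ho, n, hn, hon⟩ := Subgroup.mem_sup_of_normal_left.1 hmem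
  refine ⟨o, ho, ?_⟩
  have hnT : (n : X) ∈ normalizer
      (((S : Subgroup ↥(edgeStabilizer δ μ)).map (edgeStabilizer δ μ).subtype : Subgroup X)
        : Set X) := by
    rw [← hP]
    exact Subgroup.le_normalizer_map (MulAction.stabilizer X δ).subtype ⟨n, hn, rfl⟩
  have hnμ : (n : X) • μ = μ := normalizer_sylow_le h hμ S ⟨n.2, hnT⟩
  have hog : (o : X) * n = g := congrArg Subtype.val hon
  rw [← hgν, ← hog, mul_smul, hnμ]

theorem omegaZ_ne_bot [Fact p.Prime] {T : Subgroup X} [Finite ↥T] (hT : IsPGroup p ↥T)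
    (hne : T ≠ ⊥) : LocalEven61.omegaZ p T ≠ ⊥ := by
  haveI : Nontrivial ↥T := (Subgroup.nontrivial_iff_ne_bot T).2 hne
  haveI := hT.center_nontrivial
  obtain ⟨k, hk⟩ := IsPGroup.iff_card.1 (hT.to_subgroup (Subgroup.center ↥T))
  have hk0 : k ≠ 0 := by
    rintro rfl
    have := Finite.one_lt_card (α := ↥(Subgroup.center ↥T))
    rw [hk, pow_zero] at this
    exact lt_irrefl _ this
  obtain ⟨z, hz⟩ := exists_prime_orderOf_dvd_card' (G := ↥(Subgroup.center ↥T)) p
    (hk ▸ dvd_pow_self p hk0)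
  intro e
  have hzp : ((z : ↥T) : X) ^ p = 1 := by
    rw [← Subgroup.coe_pow, ← Subgroup.coe_pow, ← hz, pow_orderOf_eq_one]; rfl
  have hmem : ((z : ↥T) : X) ∈ LocalEven61.omegaZ p T := by
    refine LocalEven61.mem_omegaOne ⟨(z : ↥T).2, Subgroup.mem_centralizer_iff.2 fun y hy => ?_⟩ hzp
    exact congrArg Subtype.val (Subgroup.mem_center_iff.1 z.2 ⟨y, hy⟩)
  rw [e, Subgroup.mem_bot] at hmem
  have : z = 1 := Subtype.ext (Subtype.ext hmem)
  rw [this, orderOf_one] at hz
  exact (Fact.out : p.Prime).one_lt.ne hz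

/-- The common argument: no normalized `U` between `[V^{(n)}, O^p(L)]` and `Q` makes `V^{(n)}`
collapse into `V_μ^{(n-1)}`. -/
theorem not_commutator_le [Fact p.Prime] (h : IsSpeAmalgamPair p M₁ M₂) (lam : CosetVertex M₁ M₂)
    (n : ℕ) (hn : 1 ≤ n) (hVQ : vertexVIter p M₁ M₂ n lam ≤ vertexQ p lam) (D : Subgroup X)
    (hD : D ≤ ⁅vertexVIter p M₁ M₂ n lam, vertexQ p lam⁆ ∨
      (2 ≤ n ∧ D ≤ vertexVIter p M₁ M₂ (n - 2) lam)) :
    ¬ ⁅vertexVIter p M₁ M₂ n lam,
        (pResidual p ↥(pElementClosure p (MulAction.stabilizer X lam))).map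
          (pElementClosure p (MulAction.stabilizer X lam)).subtype⁆ ≤ D := by
  intro hcomm
  haveI := h.1.2.1
  haveI := h.1.2.2.1
  haveI := LocalEven61.finite_stabilizer lam
  have hgen : M₁ ⊔ M₂ = ⊤ := h.1.1.1
  obtain ⟨μ, hμ⟩ := LocalEven61.exists_cosetGraph_adj lam
  haveI : Finite ↥(edgeStabilizer lam μ) :=
    Finite.of_injective _ (Subgroup.inclusion_injective inf_le_left)
  haveI := LocalEven61.finite_stabilizer μ
  have S : Sylow p ↥(edgeStabilizer lam μ) := default
  set T := (S : Subgroup ↥(edgeStabilizer lam μ)).map (edgeStabilizer lam μ).subtype with hT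
  set L := pElementClosure p (MulAction.stabilizer X lam) with hL
  set R := (pResidual p ↥L).map L.subtype with hR
  set V := vertexVIter p M₁ M₂ n lam with hV
  set Q := vertexQ p lam with hQ
  set W := vertexVIter p M₁ M₂ (n - 1) μ with hW
  have hdist : (cosetGraph M₁ M₂).dist lam μ = 1 := SimpleGraph.dist_eq_one_iff_adj.2 hμ
  have hWV : W ≤ V := VIter_mono hgen (by omega)
  have hQT : Q ≤ T := LocalEven61.vertexQ_le_edge h.1 hμ S
  have hTl : T ≤ MulAction.stabilizer X lam := (Subgroup.map_subtype_le _).trans inf_le_left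
  have hTm : T ≤ MulAction.stabilizer X μ := (Subgroup.map_subtype_le _).trans inf_le_right
  have hVn : MulAction.stabilizer X lam ≤ normalizer (V : Set X) :=
    stabilizer_normalizes hgen n lam
  have hWn : MulAction.stabilizer X μ ≤ normalizer (W : Set X) :=
    stabilizer_normalizes hgen (n - 1) μ
  have hQn : MulAction.stabilizer X lam ≤ normalizer (Q : Set X) :=
    LocalEven61.pCoreOf_normalized _
  have hTp : IsPGroup p ↥T := S.isPGroup'.map _
  have hQp : IsPGroup p ↥Q := LocalEven61.isPGroup_pCoreOf _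
  have hQle : Q ≤ MulAction.stabilizer X lam := LocalEven61.pCoreOf_le _
  haveI : Finite ↥Q := Finite.of_injective _ (Subgroup.inclusion_injective hQle)
  have hLle : L ≤ MulAction.stabilizer X lam := LocalEven61.pElementClosure_le _
  have hTL : T ≤ L := LocalEven61.mem_pElementClosure_of_pGroup hTp hTl
  have hRL : R ≤ L := Subgroup.map_subtype_le _
  have hsup : L = R ⊔ T := by
    refine le_antisymm ?_ (sup_le hRL hTL)
    haveI : Finite ↥L := Finite.of_injective _ (Subgroup.inclusion_injective hLle)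
    have hnd : ¬ p ∣ (T.subgroupOf L).index := by
      intro hdvd
      obtain ⟨P, hP⟩ := LocalEven61.edge_sylow h.1 hμ S
      rw [← hT] at hP
      have h1 : ¬ p ∣ T.relIndex (MulAction.stabilizer X lam) := by
        rw [← hP, Subgroup.relIndex, Subgroup.subgroupOf,
          Subgroup.comap_map_eq_self_of_injective
            (MulAction.stabilizer X lam).subtype_injective]
        exact P.not_dvd_index
      exact h1 (hdvd.trans (Dvd.intro _ (Subgroup.relIndex_mul_relIndex T L _ hTL hLle)))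
    have := congrArg (Subgroup.map L.subtype) (Transfer.sup_pResidual_eq_top hnd)
    rw [Subgroup.map_sup, Subgroup.subgroupOf_map_subtype, inf_eq_left.2 hTL,
      ← MonoidHom.range_eq_map, L.range_subtype] at this
    rw [← this, sup_comm]
  set D' := ⁅V, Q⁆ with hD'
  -- `U` contains `W`, is normalized by `L`, and lies in `W ⊔ [V,Q]`
  obtain ⟨U, hWU, hUD, hDU, hTU⟩ : ∃ U : Subgroup X,
      W ≤ U ∧ U ≤ W ⊔ D' ∧ D ≤ U ∧ T ≤ normalizer (U : Set X) := by
    rcases hD with hD | ⟨h2, hD⟩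
    · refine ⟨W ⊔ D', le_sup_left, le_rfl, hD.trans le_sup_right, fun g hg => ?_⟩
      have e1 := LocalEven61.map_conj_of_mem_normalizer (hWn (hTm hg))
      have e2 := LocalEven61.map_conj_of_mem_normalizer (hVn (hTl hg))
      have e3 := LocalEven61.map_conj_of_mem_normalizer (hQn (hTl hg))
      have e : (W ⊔ D').map (MulAut.conj g).toMonoidHom = W ⊔ D' := by
        rw [Subgroup.map_sup, Subgroup.map_commutator, e1, e2, e3]
      rw [Subgroup.mem_normalizer_iff]
      intro x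
      constructor
      · intro hx; rw [← e]; exact ⟨x, hx, rfl⟩
      · intro hx
        rw [← e] at hx
        obtain ⟨y, hy, hyx⟩ := hx
        rwa [← (MulAut.conj g).injective (a₁ := y) (a₂ := x) hyx]
    · refine ⟨W, le_rfl, le_sup_left, hD.trans (VIter_mono hgen ?_), hTm.trans hWn⟩
      rw [SimpleGraph.dist_comm, hdist]; omega
  have hRU : R ≤ normalizer (U : Set X) := by
    intro r hr
    have key : ∀ r ∈ R, ∀ u ∈ U, r * u * r⁻¹ ∈ U := by
      intro r hr u hu
      have huV : u ∈ V := (sup_le hWV (Subgroup.commutator_le.2 fun a ha b hb => by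
        rw [commutatorElement_def, mul_assoc, mul_assoc, ← mul_assoc b]
        exact mul_mem ha ((Subgroup.mem_normalizer_iff.1 (hVn (hQle hb)) _).1 (inv_mem ha))))
        (hUD hu)
      have h1 : ⁅u, r⁆ ∈ U := hDU (hcomm (Subgroup.commutator_mem_commutator huV hr))
      rw [show r * u * r⁻¹ = ⁅u, r⁆⁻¹ * u by rw [commutatorElement_def]; group]
      exact mul_mem (inv_mem h1) hu
    rw [Subgroup.mem_normalizer_iff]
    exact fun x => ⟨key r hr x, fun hx => by
      simpa [mul_assoc] using key r⁻¹ (inv_mem hr) _ hx⟩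
  have hLU : L ≤ normalizer (U : Set X) := hsup.le.trans (sup_le hRU hTU)
  -- every neighbour contributes inside `U`
  have hnb : ∀ ν, (cosetGraph M₁ M₂).Adj lam ν → vertexVIter p M₁ M₂ (n - 1) ν ≤ U := by
    intro ν hν
    obtain ⟨g, hg, rfl⟩ := exists_closure_smul h hμ hν
    rw [VIter_smul hgen]
    rintro _ ⟨x, hx, rfl⟩
    exact (Subgroup.mem_normalizer_iff.1 (hLU hg) x).1 (hWU hx)
  have hVU : V ≤ U := by
    refine iSup_le fun ⟨ξ, hξd⟩ => ?_
    show vertexZ p ξ ≤ U
    by_cases hξ : ξ = lam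
    · rw [hξ, vertexZ, LocalEven61.sylowCenterClosure_eq]
      refine iSup_le fun P => ?_
      obtain ⟨P₀, hP₀⟩ := LocalEven61.edge_sylow h.1 hμ S
      obtain ⟨P₁, hP₁⟩ := LocalEven61.edge_sylow_right h.1 hμ S
      obtain ⟨g, hg⟩ := MulAction.exists_smul_eq ↥(MulAction.stabilizer X lam) P₀ P
      have hPg : (P : Subgroup ↥(MulAction.stabilizer X lam)).map
          (MulAction.stabilizer X lam).subtype = T.map (MulAut.conj (g : X)).toMonoidHom := by
        rw [← hg, hT, ← hP₀]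
        ext y
        simp only [Sylow.smul_def, Sylow.pointwise_smul_def, Subgroup.mem_map, MonoidHom.coe_coe]
        constructor
        · rintro ⟨z, ⟨w, hw, rfl⟩, rfl⟩
          exact ⟨(w : X), ⟨w, hw, rfl⟩, rfl⟩
        · rintro ⟨z, ⟨w, hw, rfl⟩, rfl⟩
          exact ⟨_, ⟨w, hw, rfl⟩, rfl⟩
      rw [hPg, ← LocalEven61.omegaZ_map]
      have hadj : (cosetGraph M₁ M₂).Adj lam ((g : X) • μ) := by
        have := LocalEven61.cosetGraph_adj_smul (g : X) hμ
        rwa [show (g : X) • lam = lam from g.2] at this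
      refine le_trans ?_ (hnb _ hadj)
      refine le_trans (Subgroup.map_mono ?_)
        ((vertexZ_smul_le (p := p) (g : X) μ).trans
          (vertexZ_le_VIter hgen _ _ _ (by simp)))
      rw [hT, ← hP₁]
      exact LocalEven61.omegaZ_le_sylowCenterClosure _ P₁
    · obtain ⟨w, hw⟩ :=
        (LocalEven61.cosetGraph_connected hgen).exists_walk_length_eq_dist lam ξ
      cases w with
      | nil => exact absurd rfl hξ
      | @cons _ ν _ hadj w' =>
        refine (vertexZ_le_VIter hgen (n - 1) ν _ ?_).trans (hnb ν hadj)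
        have h1 := SimpleGraph.dist_le w'
        rw [SimpleGraph.Walk.length_cons] at hw
        omega
  have hVW : V = W := le_antisymm (le_of_le_sup_commutator hQp hVQ (hWV.trans hVQ)
    ((hQT.trans hTm).trans hWn) (hVU.trans hUD)) hWV
  -- `V` is normalized at both ends of the edge, hence trivial
  have hbot : V = ⊥ := S2750.result M₁ M₂ h lam μ hμ S T hT V (hVQ.trans hQT)
    ((LocalEven61.pElementClosure_le _).trans hVn)
    ((LocalEven61.pElementClosure_le _).trans (hVW ▸ hWn))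
  obtain ⟨P₀, hP₀⟩ := LocalEven61.edge_sylow h.1 hμ S
  have hTne : T ≠ ⊥ := by
    intro e
    have h1 : Nat.card ↥T = 1 := by rw [e, Subgroup.card_bot]
    rw [hT, ← hP₀, Subgroup.card_map_of_injective Subtype.val_injective,
      Sylow.card_eq_multiplicity] at h1
    have hp : p ∣ Nat.card ↥(MulAction.stabilizer X lam) := by
      obtain ⟨x, (⟨rfl, -⟩ | ⟨rfl, -⟩)⟩ := LocalEven61.cosetGraph_adj_cases hμ
      · rw [LocalEven61.stabilizer_inl, LocalEven61.card_conj_map]; exact h.1.2.2.2.1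
      · rw [LocalEven61.stabilizer_inr, LocalEven61.card_conj_map]; exact h.1.2.2.2.2.1
    have h2 := (Fact.out : p.Prime).factorization_pos_of_dvd Nat.card_pos.ne' hp
    have h3 := Nat.one_lt_pow h2.ne' (Fact.out : p.Prime).one_lt
    omega
  haveI : Finite ↥T := Finite.of_injective _ (Subgroup.inclusion_injective hTl)
  refine omegaZ_ne_bot hTp hTne (eq_bot_iff.2 (le_trans ?_ hbot.le))
  refine le_trans ?_ (vertexZ_le_VIter hgen n lam lam (by simp))
  rw [hT, ← hP₀]
  exact LocalEven61.omegaZ_le_sylowCenterClosure _ P₀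

end Cfsg.Agent.LargeSub.VIter
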