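import Cfsg.Agent.LargeSub.Basic
import Cfsg.Agent.LargeSub.CharP
import Cfsg.Agent.LargeSub.FrakH
import Cfsg.Prelude.Def_LocalStructure

/-!
Weak closures of weakly closed `p`-subgroups.
-/

set_option autoImplicit false
set_option linter.unusedSectionVars false
set_option linter.style.haveILetI false

open Subgroup Cfsg
open scoped commutatorElement

namespace Cfsg.Agent.LargeSub

variable {G : Type*} [Group G] [Finite G] {p : ℕ} [hp : Fact p.Prime]

theorem wc_conj_eq_of_mem {Q : Subgroup G} (hwc : IsWeaklyClosedSubgroup p Q) {P : Subgroup G}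
    (hP : IsPGroup p P) (hQP : Q ≤ P) {g : G} (hg : Q.map (MulAut.conj g).toMonoidHom ≤ P) :
    Q.map (MulAut.conj g).toMonoidHom = Q := by
  obtain ⟨T, -, hT⟩ := hwc
  obtain ⟨a, -, ha⟩ := exists_conj_le_of_sylow_le T le_top le_top hP
  have h1 : Q.map (MulAut.conj a⁻¹).toMonoidHom ≤ (T : Subgroup G) := by
    rw [conj_le_iff, inv_inv]; exact hQP.trans ha
  have h2 : Q.map (MulAut.conj (a⁻¹ * g)).toMonoidHom ≤ (T : Subgroup G) := by
    rw [LargeSub.conj_mul, conj_le_iff, inv_inv]; exact hg.trans ha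
  have e := (hT _ h2).trans (hT _ h1).symm
  rw [LargeSub.conj_mul] at e
  exact Subgroup.map_injective (MulAut.conj a⁻¹).injective e

theorem wc_le_normalizer {Q : Subgroup G} (hwc : IsWeaklyClosedSubgroup p Q) {P : Subgroup G}
    (hP : IsPGroup p P) (hQP : Q ≤ P) : P ≤ normalizer (Q : Set G) := fun x hx =>
  mem_normalizer_of_conj_eq (wc_conj_eq_of_mem hwc hP hQP
    ((Subgroup.map_mono hQP).trans (conj_eq_of_mem hx).le))

theorem wc_conj_exists {Q : Subgroup G} (hQp : IsPGroup p Q) (hwc : IsWeaklyClosedSubgroup p Q)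
    {X : Subgroup G} (hQX : Q ≤ X) {g : G} (hg : Q.map (MulAut.conj g).toMonoidHom ≤ X) :
    ∃ x ∈ X, Q.map (MulAut.conj g).toMonoidHom = Q.map (MulAut.conj x).toMonoidHom := by
  obtain ⟨R, hR⟩ := exists_sylow_subgroup_le hQX hQp
  obtain ⟨R', hR'⟩ := exists_sylow_subgroup_le hg (isPGroup_conj hQp g)
  obtain ⟨x, rfl⟩ := MulAction.exists_smul_eq X R R'
  refine ⟨x, x.2, ?_⟩
  set P := (R : Subgroup ↥X).map X.subtype with hPdef
  have h1 : Q.map (MulAut.conj g).toMonoidHom ≤ P.map (MulAut.conj (x : G)).toMonoidHom := by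
    refine hR'.trans ?_
    rintro _ ⟨t, ht, rfl⟩
    obtain ⟨u, hu, rfl⟩ := ht
    exact ⟨(u : G), ⟨u, hu, rfl⟩, rfl⟩
  have h2 : Q.map (MulAut.conj ((x : G)⁻¹ * g)).toMonoidHom ≤ P := by
    rw [LargeSub.conj_mul, conj_le_iff, inv_inv]; exact h1
  have h3 := wc_conj_eq_of_mem hwc (R.2.map _) hR h2
  rw [LargeSub.conj_mul] at h3
  conv_rhs => rw [← h3]
  rw [← LargeSub.conj_mul, ← LargeSub.conj_mul, mul_inv_cancel, one_mul]

theorem weakClosure_eq_iSup {Q : Subgroup G} (hQp : IsPGroup p Q)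
    (hwc : IsWeaklyClosedSubgroup p Q) {X : Subgroup G} (hQX : Q ≤ X) :
    weakClosure Q X = ⨆ x : X, Q.map (MulAut.conj (x : G)).toMonoidHom := by
  refine le_antisymm (iSup_le fun g => ?_) (iSup_le fun x => ?_)
  · obtain ⟨x, hx, e⟩ := wc_conj_exists hQp hwc hQX g.2
    rw [e]
    exact le_iSup (fun x : X => Q.map (MulAut.conj (x : G)).toMonoidHom) ⟨x, hx⟩
  · exact le_iSup (fun g : {g : G // Q.map (MulAut.conj g).toMonoidHom ≤ X} =>
      Q.map (MulAut.conj (g : G)).toMonoidHom)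
      ⟨x, (Subgroup.map_mono hQX).trans (conj_eq_of_mem x.2).le⟩

theorem weakClosure_le (Q X : Subgroup G) : weakClosure Q X ≤ X := iSup_le fun g => g.2

theorem le_weakClosure {Q X : Subgroup G} (hQX : Q ≤ X) : Q ≤ weakClosure Q X :=
  (LargeSub.conj_one Q).ge.trans (le_iSup
    (fun g : {g : G // Q.map (MulAut.conj g).toMonoidHom ≤ X} =>
      Q.map (MulAut.conj (g : G)).toMonoidHom) ⟨1, by rw [LargeSub.conj_one]; exact hQX⟩)

theorem le_normalizer_weakClosure (Q X : Subgroup G) :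
    X ≤ normalizer (weakClosure Q X : Set G) := fun x hx => by
  apply mem_normalizer_of_conj_le
  rw [weakClosure, Subgroup.map_iSup]
  refine iSup_le fun g => ?_
  rw [← LargeSub.conj_mul]
  exact le_iSup (fun g : {g : G // Q.map (MulAut.conj g).toMonoidHom ≤ X} =>
    Q.map (MulAut.conj (g : G)).toMonoidHom) ⟨x * g, by
      rw [LargeSub.conj_mul]; exact (Subgroup.map_mono g.2).trans (conj_eq_of_mem hx).le⟩

theorem le_normalizer_pResidual_of {W X : Subgroup G} (h : X ≤ normalizer (W : Set G)) :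
    X ≤ normalizer ((pResidual p ↥W).map W.subtype : Set G) := fun x hx => by
  apply mem_normalizer_of_conj_le
  rw [Subgroup.map_le_iff_le_comap, pResidual_map_le_iff]
  intro y hy hc
  refine mem_pResidual_map ((Subgroup.mem_normalizer_iff.1 (h hx) y).1 hy) ?_
  show (orderOf ((MulAut.conj x) y)).Coprime p
  rwa [MulEquiv.orderOf_eq]

/-- The `p`-residual of the weak closure: generation and commutator with `Q`. -/
theorem weakClosure_residual {Q X : Subgroup G} (hQp : IsPGroup p Q)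
    (hwc : IsWeaklyClosedSubgroup p Q) (hQX : Q ≤ X) :
    weakClosure Q X = Q ⊔ (pResidual p ↥(weakClosure Q X)).map (weakClosure Q X).subtype ∧
      ⁅(pResidual p ↥(weakClosure Q X)).map (weakClosure Q X).subtype, Q⁆ =
        (pResidual p ↥(weakClosure Q X)).map (weakClosure Q X).subtype := by
  set W := weakClosure Q X with hW
  set K := (pResidual p ↥W).map W.subtype with hK
  have hKW : K ≤ W := Subgroup.map_subtype_le _
  have hQW : Q ≤ W := le_weakClosure hQX
  have hQK : Q ≤ normalizer (K : Set G) := hQW.trans (le_normalizer_pResidual_map W)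
  have hsup : W = Q ⊔ K := by
    refine le_antisymm ?_ (sup_le hQW hKW)
    haveI hRn : (K.subgroupOf W).Normal :=
      normal_subgroupOf_of_le_normalizer (le_normalizer_pResidual_map W)
    have hp' : IsPGroup p (↥W ⧸ K.subgroupOf W) := by
      intro q
      obtain ⟨⟨y, hy⟩, rfl⟩ := QuotientGroup.mk'_surjective _ q
      obtain ⟨k, hk⟩ := exists_pow_mem_pResidual_map (p := p) hy
      refine ⟨k, ?_⟩
      rw [← map_pow, QuotientGroup.mk'_apply, QuotientGroup.eq_one_iff, Subgroup.mem_subgroupOf]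
      rw [SubmonoidClass.coe_pow]
      exact hk
    set π := QuotientGroup.mk' (K.subgroupOf W) with hπ
    have htop : normalClosure ((Q.subgroupOf W).map π : Set (↥W ⧸ K.subgroupOf W)) = ⊤ := by
      rw [eq_top_iff]
      intro q _
      obtain ⟨⟨y, hy⟩, rfl⟩ := QuotientGroup.mk'_surjective _ q
      have hall : weakClosure Q W ≤ ((normalClosure ((Q.subgroupOf W).map π :
          Set (↥W ⧸ K.subgroupOf W))).comap π).map W.subtype := by
        rw [weakClosure_eq_iSup hQp hwc hQW]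
        refine iSup_le fun x => ?_
        rintro _ ⟨a, ha, rfl⟩
        refine ⟨x * ⟨a, hQW ha⟩ * x⁻¹, ?_, rfl⟩
        rw [SetLike.mem_coe, Subgroup.mem_comap, map_mul, map_mul, map_inv]
        exact normalClosure_normal.conj_mem _
          (subset_normalClosure (Subgroup.mem_map_of_mem π (show (⟨a, hQW ha⟩ : W) ∈ Q.subgroupOf W from ha))) _
      have hWW : W ≤ weakClosure Q W := by
        refine iSup_le fun g => ?_
        exact le_iSup (fun g : {g : G // Q.map (MulAut.conj g).toMonoidHom ≤ W} =>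
          Q.map (MulAut.conj (g : G)).toMonoidHom)
          ⟨g, le_iSup (fun g : {g : G // Q.map (MulAut.conj g).toMonoidHom ≤ X} =>
            Q.map (MulAut.conj (g : G)).toMonoidHom) g⟩
      obtain ⟨z, hz, hzy⟩ := hall (hWW hy)
      rw [show (⟨y, hy⟩ : W) = z from Subtype.ext hzy.symm]
      exact hz
    have h1 := eq_top_of_normalClosure_eq_top hp'.isNilpotent htop
    intro y hy
    obtain ⟨a, ha, hay⟩ := h1.ge (Subgroup.mem_top (π ⟨y, hy⟩))
    rw [hπ, QuotientGroup.mk'_apply, QuotientGroup.mk'_apply, QuotientGroup.eq,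
      Subgroup.mem_subgroupOf] at hay
    have h2 := Subgroup.mul_mem_sup (S := Q) (T := K) ha hay
    simpa using h2
  refine ⟨hsup, le_antisymm (commutator_le_left_of_le_normalizer hQK) ?_⟩
  set R := ⁅K, Q⁆ with hR
  have hWR : W ≤ normalizer (R : Set G) := by
    rw [hsup]
    exact sup_le (normalizer_commutator_ge_right K Q) (normalizer_commutator_ge_left K Q)
  have hKQR : K ≤ normalizer ((Q ⊔ R : Subgroup G) : Set G) := fun k hk => by
    apply mem_normalizer_of_conj_le
    rw [Subgroup.map_sup, conj_eq_of_mem_normalizer (hWR (hKW hk))]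
    refine sup_le ?_ le_sup_right
    rintro _ ⟨q, hq, rfl⟩
    have e : (MulAut.conj k).toMonoidHom q = ⁅k, q⁆ * q := by
      simp [commutatorElement_def]
    rw [e]
    exact mul_mem (mem_sup_right (commutator_mem_commutator hk hq)) (mem_sup_left hq)
  have hWn : W ≤ normalizer ((Q ⊔ R : Subgroup G) : Set G) := by
    rw [hsup]; exact sup_le (le_sup_left.trans le_normalizer) hKQR
  have hWQR : W ≤ Q ⊔ R := by
    have hWW : W ≤ weakClosure Q W := by
      refine iSup_le fun g => ?_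
      exact le_iSup (fun g : {g : G // Q.map (MulAut.conj g).toMonoidHom ≤ W} =>
        Q.map (MulAut.conj (g : G)).toMonoidHom)
        ⟨g, le_iSup (fun g : {g : G // Q.map (MulAut.conj g).toMonoidHom ≤ X} =>
          Q.map (MulAut.conj (g : G)).toMonoidHom) g⟩
    refine hWW.trans ?_
    rw [weakClosure_eq_iSup hQp hwc hQW]
    exact iSup_le fun x =>
      (Subgroup.map_mono le_sup_left).trans (conj_eq_of_mem_normalizer (hWn x.2)).le
  rw [hK, pResidual_map_le_iff]
  intro y hy hc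
  obtain ⟨k, hk⟩ := pow_mem_of_mem_sup hQp (hQW.trans hWR) (hWQR hy)
  exact mem_of_pow_mem_of_coprime hk hc

theorem pResidual_weakClosure_le {Q H₁ : Subgroup G} (hQp : IsPGroup p Q)
    (hn : Q ≤ normalizer (H₁ : Set G)) :
    (pResidual p ↥(weakClosure Q (H₁ ⊔ Q))).map (weakClosure Q (H₁ ⊔ Q)).subtype ≤ H₁ := by
  rw [pResidual_map_le_iff]
  intro x hx hc
  have h1 := weakClosure_le Q (H₁ ⊔ Q) hx
  rw [sup_comm] at h1
  obtain ⟨k, hk⟩ := pow_mem_of_mem_sup hQp hn h1
  exact mem_of_pow_mem_of_coprime hk hc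

/-- The factors of a weak closure which is a product of two subgroups commuting modulo `N(Q)`. -/
theorem weakClosure_factor {Q Hc H₁ H₂ : Subgroup G} (hQp : IsPGroup p Q)
    (hwc : IsWeaklyClosedSubgroup p Q) (hHc : Hc = weakClosure Q ⊤)
    (h1le : H₁ ≤ Hc) (hn₁ : Hc ≤ normalizer (H₁ : Set G))
    (h2le : H₂ ≤ Hc) (hn₂ : Hc ≤ normalizer (H₂ : Set G))
    (hprod : H₁ ⊔ H₂ = Hc) (hcomm : ⁅H₁, H₂⁆ ≤ normalizer (Q : Set G)) (K : Subgroup G)
    (hK : K = (pResidual p ↥(weakClosure Q (H₁ ⊔ Q))).map (weakClosure Q (H₁ ⊔ Q)).subtype) :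
    (⁅K, Q⁆ = K ∧ ⁅K, H₁⁆ = K ∧ K ≤ ⁅H₁, H₁⁆ ∧ Hc ≤ normalizer (K : Set G)) ∧
      ⁅K, H₂⁆ ≤ pCoreOf p Hc ∧ K ≤ (pResidual p ↥Hc).map Hc.subtype ∧
      H₁ ≤ normalizer ((Q ⊔ K : Subgroup G) : Set G) := by
  set W := weakClosure Q (H₁ ⊔ Q) with hW
  have hQHc : Q ≤ Hc := hHc ▸ le_weakClosure le_top
  obtain ⟨hsup, hKQ⟩ := weakClosure_residual (X := H₁ ⊔ Q) hQp hwc le_sup_right
  rw [← hW, ← hK] at hsup hKQ
  have hKH₁ : K ≤ H₁ := hK ▸ pResidual_weakClosure_le hQp (hQHc.trans hn₁)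
  have hH₁K : H₁ ⊔ Q ≤ normalizer (K : Set G) :=
    hK ▸ le_normalizer_pResidual_of (le_normalizer_weakClosure Q _)
  set O := pCoreOf p Hc with hO
  have hOQ : O ≤ normalizer (Q : Set G) := by
    have hp' : IsPGroup p ↥(O ⊔ Q) := (isPGroup_pCoreOf Hc).to_sup_of_normal_left' hQp
      (hQHc.trans (le_normalizer_pCoreOf p Hc))
    exact le_sup_left.trans (wc_le_normalizer hwc hp' le_sup_right)
  have hOn : Hc ≤ normalizer (O : Set G) := le_normalizer_pCoreOf p Hc
  have hOK : O ≤ normalizer (K : Set G) := by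
    rw [hK]
    refine le_normalizer_pResidual_of fun x hx => ?_
    apply mem_normalizer_of_conj_le
    rw [hW, weakClosure, Subgroup.map_iSup]
    refine iSup_le fun g => ?_
    rw [← LargeSub.conj_mul]
    refine le_iSup (fun g : {g : G // Q.map (MulAut.conj g).toMonoidHom ≤ H₁ ⊔ Q} =>
      Q.map (MulAut.conj (g : G)).toMonoidHom) ⟨x * g, ?_⟩
    rw [LargeSub.conj_mul]
    exact (Subgroup.map_mono g.2).trans (conj_eq_of_mem_normalizer
      (le_normalizer_sup ((pCoreOf_le Hc).trans hn₁) hOQ hx)).le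
  -- `D₀ = [H₁, H₂]` is central modulo `O`
  set D := ⁅H₁, H₂⁆ with hD
  have hDH : D ≤ Hc := (commutator_le_left_of_le_normalizer (h2le.trans hn₁)).trans h1le
  have hDn : Hc ≤ normalizer (D : Set G) := by
    rw [← hprod]
    exact sup_le (normalizer_commutator_ge_left H₁ H₂) (normalizer_commutator_ge_right H₁ H₂)
  have hsnIntoO : ∀ R : Subgroup G, R ≤ D → IsPGroup p R → D ≤ normalizer (R : Set G) → R ≤ O := by
    intro R hRD hRp hRn
    haveI : ((R.subgroupOf D)).Normal := normal_subgroupOf_of_le_normalizer hRn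
    haveI hDn' : (D.subgroupOf Hc).Normal := normal_subgroupOf_of_le_normalizer hDn
    have h1 : R ≤ pCoreOf p D := le_pCoreOf hRD hRn hRp
    exact h1.trans (pCoreOf_mono_of_normal hDH hDn)
  have hDQ : ⁅D, Q⁆ ≤ O := by
    refine le_trans (le_inf (commutator_le_left_of_le_normalizer (hQHc.trans hDn))
      (commutator_le_of_le_normalizer hcomm)) (hsnIntoO (D ⊓ Q) inf_le_left hQp.to_inf_right
        (le_normalizer_inf le_normalizer hcomm))
  have hDHc : ⁅D, Hc⁆ ≤ O := by
    rw [Subgroup.commutator_le]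
    intro d hd
    have hset : ∀ y ∈ Hc, ∀ d ∈ D, ⁅d, y⁆ ∈ O := by
      have hgen : Hc = ⨆ x : Hc, Q.map (MulAut.conj (x : G)).toMonoidHom := by
        conv_lhs => rw [hHc]
        refine le_antisymm (iSup_le fun g => ?_) ?_
        · have hgle : Q.map (MulAut.conj (g : G)).toMonoidHom ≤ Hc :=
            hHc ▸ le_iSup (fun g : {g : G // Q.map (MulAut.conj g).toMonoidHom ≤ ⊤} =>
              Q.map (MulAut.conj (g : G)).toMonoidHom) g
          obtain ⟨x, hx, e⟩ := wc_conj_exists hQp hwc hQHc hgle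
          rw [e]
          exact le_iSup (fun x : Hc => Q.map (MulAut.conj (x : G)).toMonoidHom) ⟨x, hx⟩
        · exact iSup_le fun x => le_iSup
            (fun g : {g : G // Q.map (MulAut.conj g).toMonoidHom ≤ ⊤} =>
              Q.map (MulAut.conj (g : G)).toMonoidHom) ⟨x, le_top⟩
      set T : Set G := ⋃ x : Hc, (Q.map (MulAut.conj (x : G)).toMonoidHom : Set G)
      have hHT : Hc = closure T := by
        rw [Subgroup.closure_iUnion]
        simp only [Subgroup.closure_eq]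
        exact hgen
      intro y hy
      rw [hHT] at hy
      induction hy using Subgroup.closure_induction with
      | mem y hy =>
        obtain ⟨x, q, hq, rfl⟩ := Set.mem_iUnion.1 hy
        intro d hd
        have hd' : (x : G)⁻¹ * d * (x : G) ∈ D := by
          have := (Subgroup.mem_normalizer_iff.1 (hDn (inv_mem x.2)) d).1 hd
          simpa using this
        have h1 := hDQ (commutator_mem_commutator hd' hq)
        have h2 := (Subgroup.mem_normalizer_iff.1 (hOn x.2) _).1 h1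
        refine cast (congrArg (· ∈ O) ?_) h2
        simp only [MulEquiv.coe_toMonoidHom, MulAut.conj_apply, commutatorElement_def]
        group
      | one => intro d _; simp [commutatorElement_def, one_mem]
      | mul y z hy hz ihy ihz =>
        intro d hd
        have e : ⁅d, y * z⁆ = ⁅d, y⁆ * (y * ⁅d, z⁆ * y⁻¹) := by
          simp only [commutatorElement_def]; group
        rw [e]
        exact mul_mem (ihy d hd)
          ((Subgroup.mem_normalizer_iff.1 (hOn (hHT ▸ hy)) _).1 (ihz d hd))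
      | inv y hy ih =>
        intro d hd
        have e : ⁅d, y⁻¹⁆ = y⁻¹ * ⁅d, y⁆⁻¹ * y⁻¹⁻¹ := by
          simp only [commutatorElement_def]; group
        rw [e]
        exact (Subgroup.mem_normalizer_iff.1 (hOn (hHT ▸ inv_mem hy)) _).1 (inv_mem (ih d hd))
    intro y hy
    exact hset y hy d hd
  -- pass to `Hc / O`
  haveI hOn' : (O.subgroupOf Hc).Normal := normal_subgroupOf_of_le_normalizer hOn
  set π := QuotientGroup.mk' (O.subgroupOf Hc) with hπ
  have hcen : ∀ d : Hc, (d : G) ∈ D → π d ∈ center (↥Hc ⧸ O.subgroupOf Hc) := by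
    intro d hd
    rw [Subgroup.mem_center_iff]
    intro q
    obtain ⟨y, rfl⟩ := QuotientGroup.mk'_surjective _ q
    rw [eq_comm, ← commutatorElement_eq_one_iff_mul_comm, ← map_commutatorElement,
      hπ, QuotientGroup.mk'_apply, QuotientGroup.eq_one_iff, Subgroup.mem_subgroupOf]
    exact hDHc (commutator_mem_commutator hd y.2)
  have hKH₂ : ⁅K, H₂⁆ ≤ O := by
    rw [Subgroup.commutator_le]
    intro k hk h hh
    set hH : Hc := ⟨h, h2le hh⟩
    -- the map `x ↦ [x, h]` on `H₁`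
    let f : ↥H₁ →* ↥Hc ⧸ O.subgroupOf Hc :=
      { toFun := fun x => π ⁅(⟨x, h1le x.2⟩ : Hc), hH⁆
        map_one' := by
          rw [show (⟨((1 : H₁) : G), h1le (1 : H₁).2⟩ : Hc) = 1 from rfl, commutatorElement_one_left,
            map_one]
        map_mul' := fun x y => by
          have hc := hcen ⁅(⟨y, h1le y.2⟩ : Hc), hH⁆ (commutator_mem_commutator y.2 hh)
          rw [show (⟨((x * y : H₁) : G), h1le (x * y).2⟩ : Hc) = ⟨x, h1le x.2⟩ * ⟨y, h1le y.2⟩ from rfl]
          have e : ⁅(⟨x, h1le x.2⟩ : Hc) * ⟨y, h1le y.2⟩, hH⁆ =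
              ⟨x, h1le x.2⟩ * ⁅(⟨y, h1le y.2⟩ : Hc), hH⁆ * ⟨x, h1le x.2⟩⁻¹ *
                ⁅(⟨x, h1le x.2⟩ : Hc), hH⁆ := by
            simp only [commutatorElement_def]; group
          rw [e]
          simp only [map_mul, map_inv]
          rw [Subgroup.mem_center_iff.1 hc (π ⟨x, h1le x.2⟩), mul_inv_cancel_right,
            ← Subgroup.mem_center_iff.1 hc] }
    have hker : K ≤ f.ker.map H₁.subtype := by
      rw [← hKQ, Subgroup.commutator_le]
      intro k hk q hq
      obtain ⟨a, ha, b, hb, rfl⟩ := exists_mul_of_mem_sup (h1le.trans hn₂)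
        (show q ∈ H₁ ⊔ H₂ from hprod.ge (hQHc hq))
      set z := a * ⁅k, b⁆ * a⁻¹ with hz
      have hzD : z ∈ D := (Subgroup.mem_normalizer_iff.1 (hDn (h1le ha)) _).1
        (commutator_mem_commutator (hKH₁ hk) hb)
      have hzH₁ : z ∈ H₁ := (commutator_le_left_of_le_normalizer (h2le.trans hn₁)) hzD
      refine ⟨⁅(⟨k, hKH₁ hk⟩ : H₁), ⟨a, ha⟩⁆ * ⟨z, hzH₁⟩, ?_, ?_⟩
      · rw [SetLike.mem_coe, MonoidHom.mem_ker, map_mul, map_commutatorElement]
        have h1 : ⁅f ⟨k, hKH₁ hk⟩, f ⟨a, ha⟩⁆ = 1 := by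
          rw [commutatorElement_eq_one_iff_mul_comm]
          exact (Subgroup.mem_center_iff.1 (hcen _ (commutator_mem_commutator ha hh)) _)
        have h2 : f ⟨z, hzH₁⟩ = 1 := by
          show π ⁅(⟨z, h1le hzH₁⟩ : Hc), hH⁆ = 1
          rw [hπ, QuotientGroup.mk'_apply, QuotientGroup.eq_one_iff, Subgroup.mem_subgroupOf]
          exact hDHc (commutator_mem_commutator hzD (h2le hh))
        rw [h1, h2, one_mul]
      · simp only [Subgroup.coe_subtype, Subgroup.coe_mul, hz, commutatorElement_def,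
          Subgroup.coe_inv]
        group
    obtain ⟨x, hx, hxk⟩ := hker hk
    rw [SetLike.mem_coe, MonoidHom.mem_ker] at hx
    have h3 : π ⁅(⟨x, h1le x.2⟩ : Hc), hH⁆ = 1 := hx
    rw [hπ, QuotientGroup.mk'_apply, QuotientGroup.eq_one_iff, Subgroup.mem_subgroupOf] at h3
    rw [← hxk]
    exact h3
  have hKn : Hc ≤ normalizer (K : Set G) := by
    rw [← hprod]
    refine sup_le (le_sup_left.trans hH₁K) fun h hh => ?_
    apply mem_normalizer_of_conj_le
    rw [hK, Subgroup.map_le_iff_le_comap, pResidual_map_le_iff, ← hK]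
    intro y hy hc
    have hyK : y ∈ K := hK ▸ mem_pResidual_map hy hc
    have h1 : h * y * h⁻¹ ∈ O ⊔ K := by
      have e : h * y * h⁻¹ = ⁅y, h⁆⁻¹ * y := by simp only [commutatorElement_def]; group
      rw [e]
      exact mul_mem (mem_sup_left (inv_mem (hKH₂ (commutator_mem_commutator hyK hh))))
        (mem_sup_right hyK)
    obtain ⟨j, hj⟩ := pow_mem_of_mem_sup (isPGroup_pCoreOf Hc) hOK h1
    show h * y * h⁻¹ ∈ K
    refine mem_of_pow_mem_of_coprime hj ?_
    show (orderOf ((MulAut.conj h) y)).Coprime p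
    rwa [MulEquiv.orderOf_eq]
  refine ⟨⟨hKQ, ?_, ?_, hKn⟩, hKH₂, ?_, ?_⟩
  · refine le_antisymm (commutator_le_left_of_le_normalizer (h1le.trans hKn)) ?_
    set R := ⁅K, H₁⁆ with hR
    have hRn : Hc ≤ normalizer (R : Set G) := fun g hg => by
      apply mem_normalizer_of_conj_le
      rw [hR, Subgroup.map_commutator, conj_eq_of_mem_normalizer (hKn hg),
        conj_eq_of_mem_normalizer (hn₁ hg)]
    have h1 : K ≤ O ⊔ R := by
      rw [← hKQ, Subgroup.commutator_le]
      intro k hk q hq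
      obtain ⟨a, ha, b, hb, rfl⟩ := exists_mul_of_mem_sup (h1le.trans hn₂)
        (show q ∈ H₁ ⊔ H₂ from hprod.ge (hQHc hq))
      have e : ⁅k, a * b⁆ = ⁅k, a⁆ * (a * ⁅k, b⁆ * a⁻¹) := by
        simp only [commutatorElement_def]; group
      rw [e]
      exact mul_mem (mem_sup_right (commutator_mem_commutator hk ha))
        (mem_sup_left ((Subgroup.mem_normalizer_iff.1 (hOn (h1le ha)) _).1
          (hKH₂ (commutator_mem_commutator hk hb))))
    conv_lhs => rw [hK]
    rw [pResidual_map_le_iff]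
    intro y hy hc
    obtain ⟨j, hj⟩ := pow_mem_of_mem_sup (isPGroup_pCoreOf Hc) ((pCoreOf_le Hc).trans hRn)
      (h1 (hK ▸ mem_pResidual_map hy hc))
    exact mem_of_pow_mem_of_coprime hj hc
  · have h1 : ⁅K, H₁⁆ ≤ ⁅H₁, H₁⁆ := commutator_mono hKH₁ le_rfl
    refine le_trans ?_ h1
    set R := ⁅K, H₁⁆ with hR
    have hRn : Hc ≤ normalizer (R : Set G) := fun g hg => by
      apply mem_normalizer_of_conj_le
      rw [hR, Subgroup.map_commutator, conj_eq_of_mem_normalizer (hKn hg),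
        conj_eq_of_mem_normalizer (hn₁ hg)]
    have h1 : K ≤ O ⊔ R := by
      rw [← hKQ, Subgroup.commutator_le]
      intro k hk q hq
      obtain ⟨a, ha, b, hb, rfl⟩ := exists_mul_of_mem_sup (h1le.trans hn₂)
        (show q ∈ H₁ ⊔ H₂ from hprod.ge (hQHc hq))
      have e : ⁅k, a * b⁆ = ⁅k, a⁆ * (a * ⁅k, b⁆ * a⁻¹) := by
        simp only [commutatorElement_def]; group
      rw [e]
      exact mul_mem (mem_sup_right (commutator_mem_commutator hk ha))
        (mem_sup_left ((Subgroup.mem_normalizer_iff.1 (hOn (h1le ha)) _).1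
          (hKH₂ (commutator_mem_commutator hk hb))))
    conv_lhs => rw [hK]
    rw [pResidual_map_le_iff]
    intro y hy hc
    obtain ⟨j, hj⟩ := pow_mem_of_mem_sup (isPGroup_pCoreOf Hc) ((pCoreOf_le Hc).trans hRn)
      (h1 (hK ▸ mem_pResidual_map hy hc))
    exact mem_of_pow_mem_of_coprime hj hc
  · rw [hK, pResidual_map_le_iff]
    intro y hy hc
    exact mem_pResidual_map ((sup_le h1le hQHc) (weakClosure_le Q _ hy)) hc
  · rw [← hsup]
    exact le_sup_left.trans (le_normalizer_weakClosure Q _)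

/-- With both factors: the residual of the weak closure is their product. -/
theorem weakClosure_residual_le_sup {Q Hc H₁ H₂ K₁ K₂ : Subgroup G} (hQp : IsPGroup p Q)
    (hwc : IsWeaklyClosedSubgroup p Q) (hHc : Hc = weakClosure Q ⊤) (hprod : H₁ ⊔ H₂ = Hc)
    (hK₁ : K₁ ≤ Hc) (hK₂ : K₂ ≤ Hc) (hn₁ : Hc ≤ normalizer (K₁ : Set G))
    (hn₂ : Hc ≤ normalizer (K₂ : Set G))
    (h₁ : H₁ ≤ normalizer ((Q ⊔ K₁ : Subgroup G) : Set G))
    (h₂ : H₂ ≤ normalizer ((Q ⊔ K₂ : Subgroup G) : Set G)) :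
    (pResidual p ↥Hc).map Hc.subtype ≤ K₁ ⊔ K₂ := by
  have hQHc : Q ≤ Hc := hHc ▸ le_weakClosure le_top
  set N := K₁ ⊔ K₂ with hN
  have hNn : Hc ≤ normalizer (N : Set G) := le_normalizer_sup hn₁ hn₂
  have hn' : Hc ≤ normalizer ((Q ⊔ N : Subgroup G) : Set G) := by
    conv_lhs => rw [← hprod]
    have hle1 : H₁ ≤ Hc := hprod ▸ le_sup_left
    have hle2 : H₂ ≤ Hc := hprod ▸ le_sup_right
    refine sup_le (fun g hg => ?_) (fun g hg => ?_)
    · rw [show Q ⊔ N = (Q ⊔ K₁) ⊔ K₂ from (sup_assoc Q K₁ K₂).symm]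
      exact le_normalizer_sup h₁ (hle1.trans hn₂) hg
    · rw [show Q ⊔ N = (Q ⊔ K₂) ⊔ K₁ by rw [hN, sup_comm K₁ K₂, sup_assoc]]
      exact le_normalizer_sup h₂ (hle2.trans hn₁) hg
  have hle : Hc ≤ Q ⊔ N := by
    conv_lhs => rw [hHc]
    refine iSup_le fun g => ?_
    have hgle : Q.map (MulAut.conj (g : G)).toMonoidHom ≤ Hc :=
      hHc ▸ le_iSup (fun g : {g : G // Q.map (MulAut.conj g).toMonoidHom ≤ ⊤} =>
        Q.map (MulAut.conj (g : G)).toMonoidHom) g
    obtain ⟨x, hx, e⟩ := wc_conj_exists hQp hwc hQHc hgle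
    rw [e]
    exact (Subgroup.map_mono le_sup_left).trans (conj_eq_of_mem_normalizer (hn' hx)).le
  rw [pResidual_map_le_iff]
  intro y hy hc
  obtain ⟨j, hj⟩ := pow_mem_of_mem_sup hQp (hQHc.trans hNn) (hle hy)
  exact mem_of_pow_mem_of_coprime hj hc

end Cfsg.Agent.LargeSub
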